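import Mathlib.RingTheory.Smooth.IntegralClosure
import Mathlib.RingTheory.Flat.Equalizer
import Mathlib.RingTheory.RingHom.Smooth
import Mathlib.Algebra.Category.Ring.Constructions

/-!
# Integral closure in an equalizer commutes with smooth base change
-/

set_option autoImplicit false

universe u

open TensorProduct CategoryTheory CategoryTheory.Limits

namespace Groth.Agent.AlgSpDec.RelNorm

variable {A B C D : Type u} [CommRing A] [CommRing B] [CommRing C] [CommRing D]
  [Algebra A B] [Algebra A C] [Algebra A D] [Algebra.Smooth A B]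

/-- The integral closure in an equalizer. -/
abbrev icEq (g₁ g₂ : C →ₐ[A] D) : Subalgebra A ↥(AlgHom.equalizer g₁ g₂) :=
  integralClosure A ↥(AlgHom.equalizer g₁ g₂)

/-- The inclusion of the integral closure in an equalizer. -/
def icEqVal (g₁ g₂ : C →ₐ[A] D) : icEq g₁ g₂ →ₐ[A] C :=
  (AlgHom.equalizer g₁ g₂).val.comp (icEq g₁ g₂).val

theorem exists_tensor_of_equalized (g₁ g₂ : C →ₐ[A] D) (x : B ⊗[A] C)
    (hx : Algebra.TensorProduct.map (AlgHom.id B B) g₁ x = Algebra.TensorProduct.map (AlgHom.id B B) g₂ x)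
    (hi : IsIntegral B x) :
    ∃ m : B ⊗[A] icEq g₁ g₂, Algebra.TensorProduct.map (AlgHom.id B B) (icEqVal g₁ g₂) m = x := by
  let E := AlgHom.equalizer g₁ g₂
  let j : B ⊗[A] E →ₐ[B] B ⊗[A] C := Algebra.TensorProduct.map (AlgHom.id B B) E.val
  have hj : Function.Injective j :=
    Module.Flat.lTensor_preserves_injective_linearMap (M := B) E.val.toLinearMap Subtype.val_injective
  let w : B ⊗[A] E := (AlgHom.tensorEqualizerEquiv B B g₁ g₂).symm ⟨x, hx⟩
  have hw : j w = x := by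
    show Algebra.TensorProduct.map (AlgHom.id B B) (AlgHom.equalizer g₁ g₂).val w = x
    rw [← AlgHom.coe_tensorEqualizer, ← AlgHom.tensorEqualizerEquiv_apply, AlgEquiv.apply_symm_apply]
  have hwi : IsIntegral B w := (isIntegral_algHom_iff j hj).1 (hw ▸ hi)
  obtain ⟨m, hm⟩ := (TensorProduct.toIntegralClosure_bijective_of_smooth (R := A) (S := B) (B := ↥E)).2 ⟨w, hwi⟩
  refine ⟨m, ?_⟩
  have e : Algebra.TensorProduct.map (AlgHom.id B B) (icEqVal g₁ g₂) =
      j.comp (Algebra.TensorProduct.map (AlgHom.id B B) (icEq g₁ g₂).val) := by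
    refine Algebra.TensorProduct.ext (Subsingleton.elim _ _) ?_
    ext x
    rfl
  rw [e, ← hw]
  exact congrArg j (congrArg Subtype.val hm)

theorem tensor_icEqVal_injective (g₁ g₂ : C →ₐ[A] D) :
    Function.Injective (Algebra.TensorProduct.map (AlgHom.id B B) (icEqVal g₁ g₂)) :=
  Module.Flat.lTensor_preserves_injective_linearMap (M := B) (icEqVal g₁ g₂).toLinearMap
    (Subtype.val_injective.comp Subtype.val_injective)

/-- The categorical form. -/
theorem exists_of_isPushout (g₁ g₂ : C →ₐ[A] D)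
    {B' C' D' M' : CommRingCat.{u}} (eB : CommRingCat.of B ≅ B')
    {lc : B' ⟶ C'} {rc : CommRingCat.of C ⟶ C'}
    (pC : IsPushout (CommRingCat.ofHom (algebraMap A B) ≫ eB.hom) (CommRingCat.ofHom (algebraMap A C)) lc rc)
    {ld : B' ⟶ D'} {rd : CommRingCat.of D ⟶ D'}
    (pD : IsPushout (CommRingCat.ofHom (algebraMap A B) ≫ eB.hom) (CommRingCat.ofHom (algebraMap A D)) ld rd)
    {lm : B' ⟶ M'} {rm : CommRingCat.of (icEq g₁ g₂) ⟶ M'}
    (pM : IsPushout (CommRingCat.ofHom (algebraMap A B) ≫ eB.hom) (CommRingCat.ofHom (algebraMap A (icEq g₁ g₂)))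
      lm rm)
    {p₁ p₂ : C' ⟶ D'} (hl₁ : lc ≫ p₁ = ld) (hr₁ : rc ≫ p₁ = CommRingCat.ofHom g₁.toRingHom ≫ rd)
    (hl₂ : lc ≫ p₂ = ld) (hr₂ : rc ≫ p₂ = CommRingCat.ofHom g₂.toRingHom ≫ rd)
    {ι : M' ⟶ C'} (hli : lm ≫ ι = lc) (hri : rm ≫ ι = CommRingCat.ofHom (icEqVal g₁ g₂).toRingHom ≫ rc) :
    Function.Injective ι ∧ ∀ x : C', p₁ x = p₂ x → lc.hom.IsIntegralElem x → ∃ m, ι m = x := by
  let φ := CommRingCat.ofHom (algebraMap A B)
  have key : ∀ {E : Type u} [CommRing E] [Algebra A E] {E' : CommRingCat.{u}} {l : B' ⟶ E'}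
      {r : CommRingCat.of E ⟶ E'} (_ : IsPushout (φ ≫ eB.hom) (CommRingCat.ofHom (algebraMap A E)) l r),
      ∃ e : CommRingCat.of (B ⊗[A] E) ≅ E',
        CommRingCat.ofHom (Algebra.TensorProduct.includeLeftRingHom : B →+* B ⊗[A] E) ≫ e.hom = eB.hom ≫ l ∧
        CommRingCat.ofHom (Algebra.TensorProduct.includeRight (R := A) (A := B) (B := E)).toRingHom ≫ e.hom = r := by
    intro E _ _ E' l r p
    have p' : IsPushout φ (CommRingCat.ofHom (algebraMap A E)) (eB.hom ≫ l) r :=
      IsPushout.of_iso p (Iso.refl _) eB.symm (Iso.refl _) (Iso.refl _) (by simp [φ]) (by simp) (by simp) (by simp)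
    exact ⟨(CommRingCat.isPushout_tensorProduct A B E).isoIsPushout _ _ p',
      IsPushout.inl_isoIsPushout_hom _ _ _ _, IsPushout.inr_isoIsPushout_hom _ _ _ _⟩
  obtain ⟨ec, hcl, hcr⟩ := key pC
  obtain ⟨ed, hdl, hdr⟩ := key pD
  obtain ⟨em, hml, hmr⟩ := key pM
  let m₁ : CommRingCat.of (B ⊗[A] C) ⟶ CommRingCat.of (B ⊗[A] D) :=
    CommRingCat.ofHom (Algebra.TensorProduct.map (AlgHom.id B B) g₁).toRingHom
  let m₂ : CommRingCat.of (B ⊗[A] C) ⟶ CommRingCat.of (B ⊗[A] D) :=
    CommRingCat.ofHom (Algebra.TensorProduct.map (AlgHom.id B B) g₂).toRingHom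
  let mι : CommRingCat.of (B ⊗[A] icEq g₁ g₂) ⟶ CommRingCat.of (B ⊗[A] C) :=
    CommRingCat.ofHom (Algebra.TensorProduct.map (AlgHom.id B B) (icEqVal g₁ g₂)).toRingHom
  have hm : ∀ {E : Type u} [CommRing E] [Algebra A E] (g : C →ₐ[A] E),
      CommRingCat.ofHom (Algebra.TensorProduct.includeLeftRingHom : B →+* B ⊗[A] C) ≫
          CommRingCat.ofHom (Algebra.TensorProduct.map (AlgHom.id B B) g).toRingHom =
        CommRingCat.ofHom (Algebra.TensorProduct.includeLeftRingHom : B →+* B ⊗[A] E) ∧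
      CommRingCat.ofHom (Algebra.TensorProduct.includeRight (R := A) (A := B) (B := C)).toRingHom ≫
          CommRingCat.ofHom (Algebra.TensorProduct.map (AlgHom.id B B) g).toRingHom =
        CommRingCat.ofHom g.toRingHom ≫
          CommRingCat.ofHom (Algebra.TensorProduct.includeRight (R := A) (A := B) (B := E)).toRingHom := by
    intro E _ _ g
    constructor <;> ext x <;> simp
  have h1 : m₁ ≫ ed.hom = ec.hom ≫ p₁ := by
    refine (CommRingCat.isPushout_tensorProduct A B C).hom_ext ?_ ?_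
    · rw [reassoc_of% (hm g₁).1, hdl, reassoc_of% hcl, hl₁]
    · rw [reassoc_of% (hm g₁).2, hdr, reassoc_of% hcr, hr₁]
  have h2 : m₂ ≫ ed.hom = ec.hom ≫ p₂ := by
    refine (CommRingCat.isPushout_tensorProduct A B C).hom_ext ?_ ?_
    · rw [reassoc_of% (hm g₂).1, hdl, reassoc_of% hcl, hl₂]
    · rw [reassoc_of% (hm g₂).2, hdr, reassoc_of% hcr, hr₂]
  have h3 : mι ≫ ec.hom = em.hom ≫ ι := by
    refine (CommRingCat.isPushout_tensorProduct A B (icEq g₁ g₂)).hom_ext ?_ ?_
    · have : CommRingCat.ofHom (Algebra.TensorProduct.includeLeftRingHom : B →+* B ⊗[A] icEq g₁ g₂) ≫ mι =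
          CommRingCat.ofHom Algebra.TensorProduct.includeLeftRingHom := by ext x; simp [mι]
      rw [reassoc_of% this, hcl, reassoc_of% hml, hli]
    · have : CommRingCat.ofHom (Algebra.TensorProduct.includeRight (R := A) (A := B) (B := icEq g₁ g₂)).toRingHom ≫
          mι = CommRingCat.ofHom (icEqVal g₁ g₂).toRingHom ≫
            CommRingCat.ofHom (Algebra.TensorProduct.includeRight (R := A) (A := B) (B := C)).toRingHom := by
        ext x; simp [mι]
      rw [reassoc_of% this, hcr, reassoc_of% hmr, hri]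
  have inj : ∀ {X Y : CommRingCat.{u}} (e : X ≅ Y), Function.Injective e.hom := fun e =>
    (ConcreteCategory.bijective_of_isIso e.hom).injective
  refine ⟨fun a a' h => ?_, fun x hx hi => ?_⟩
  · obtain ⟨a, rfl⟩ := (ConcreteCategory.bijective_of_isIso em.hom).surjective a
    obtain ⟨a', rfl⟩ := (ConcreteCategory.bijective_of_isIso em.hom).surjective a'
    congr 1
    refine tensor_icEqVal_injective g₁ g₂ (inj ec ?_)
    exact (congr($h3 a)).trans (h.trans (congr($h3 a')).symm)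
  · obtain ⟨y, rfl⟩ := (ConcreteCategory.bijective_of_isIso ec.hom).surjective x
    have hy₁ : Algebra.TensorProduct.map (AlgHom.id B B) g₁ y = Algebra.TensorProduct.map (AlgHom.id B B) g₂ y :=
      inj ed ((congr($h1 y)).trans (hx.trans (congr($h2 y)).symm))
    have hyi : IsIntegral B y := by
      obtain ⟨q, hq, hqy⟩ := hi
      refine ⟨q.map eB.inv.hom, hq.map _, inj ec ?_⟩
      have e : ec.hom.hom.comp ((algebraMap B (B ⊗[A] C)).comp eB.inv.hom) = lc.hom := by
        refine RingHom.ext fun b => (congr($hcl (eB.inv b))).trans ?_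
        show lc (eB.hom (eB.inv b)) = lc b
        exact congrArg lc (congr($(eB.inv_hom_id) b))
      rw [map_zero, Polynomial.eval₂_map]
      refine (Polynomial.hom_eval₂ q _ ec.hom.hom y).trans ?_
      rw [e]
      exact hqy
    obtain ⟨m, hm'⟩ := exists_tensor_of_equalized g₁ g₂ y hy₁ hyi
    exact ⟨em.hom m, (congr($h3 m)).symm.trans (congrArg ec.hom hm')⟩

end Groth.Agent.AlgSpDec.RelNorm
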