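import Groth.Agent.AlgSpDec.RelNorm.BaseChange
import Groth.Agent.AlgSpDec.RelNorm.Ring
import Groth.Agent.AlgSpDec.HomToAffine
import Groth.Agent.AlgSpDec.LimDescent
import Mathlib.AlgebraicGeometry.Morphisms.Etale
import Mathlib.RingTheory.Smooth.Basic

/-!
# Relative normalization over an affine scheme, stable under etale base change
-/

set_option autoImplicit false
set_option backward.isDefEq.respectTransparency false
set_option backward.isDefEq.respectTransparency.types false

universe u

open CategoryTheory CategoryTheory.Limits AlgebraicGeometry AlgSp Groth.Agent.AlgSpLib Groth.Agent.AlgSpPts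

namespace Groth.Agent.AlgSpDec.RelNorm

variable {S : Scheme.{u}}

/-- A criterion for relative normalizations over an affine scheme, in terms of sections on an affine atlas. -/
theorem isRelNormalization_affine {O T R N : Over S} [IsAffine O.left] [IsAffine T.left]
    [IsAffine N.left] {P : Sp S} {π : P ⟶ (yon S).obj O} {a : (yon S).obj T ⟶ P} [Epi a] {k : T ⟶ O}
    (hk : (yon S).map k = a ≫ π) (p₁ p₂ : R ⟶ T) (hp : (yon S).map p₁ ≫ a = (yon S).map p₂ ≫ a) {ν : N ⟶ O}
    [IsIntegralHom ν.left] {u : T ⟶ N} {g : P ⟶ (yon S).obj N} (hg : a ≫ g = (yon S).map u)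
    (hgν : g ≫ (yon S).map ν = π) (hinj : Function.Injective u.left.appTop)
    (hrange : ∀ x : Γ(T.left, ⊤), p₁.left.appTop x = p₂.left.appTop x → k.left.appTop.hom.IsIntegralElem x →
      ∃ m, u.left.appTop m = x) :
    IsRelNormalization π ((yon S).map ν) g := by
  refine ⟨hgν, isIntegralMor_iff_repWith.2 ((repWith_yon_map_iff @IsIntegralHom ν).2 ‹_›), fun Z hZ q γ hq hγ => ?_⟩
  have hr := isIntegralMor_iff_repWith.1 hq
  have sq := hr.rep.isPullback (𝟙 ((yon S).obj O))
  haveI : IsIso (hr.rep.fst (𝟙 ((yon S).obj O))) := sq.isIso_fst_of_isIso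
  let E := asIso (hr.rep.fst (𝟙 ((yon S).obj O)))
  let w := hr.rep.snd (𝟙 ((yon S).obj O))
  haveI hw : IsIntegralHom w.left := hr.property_snd (𝟙 ((yon S).obj O))
  haveI : IsAffine (hr.rep.pullback (𝟙 ((yon S).obj O))).left := isAffine_of_isAffineHom w.left
  have hwq : E.hom ≫ q = (yon S).map w := sq.w.trans (Category.comp_id _)
  obtain ⟨γ', hγ'⟩ := (yon S).map_surjective (a ≫ γ ≫ E.inv)
  have hγw : γ' ≫ w = k := (yon S).map_injective (by
    rw [Functor.map_comp, hγ', ← hwq, Category.assoc, Category.assoc, E.inv_hom_id_assoc, hγ, hk])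
  have hp' : p₁ ≫ γ' = p₂ ≫ γ' := (yon S).map_injective (by
    rw [Functor.map_comp, Functor.map_comp, hγ', reassoc_of% hp])
  have hkey : ∀ s, ∃ m, u.left.appTop m = γ'.left.appTop s := fun s => by
    refine hrange _ ?_ ?_
    · have h := congrArg (fun e : R ⟶ _ => e.left.appTop s) hp'
      simp only [Over.comp_left, Scheme.Hom.comp_appTop, ConcreteCategory.comp_apply] at h
      exact h
    · obtain ⟨p, hpm, hps⟩ := ((HasAffineProperty.iff_of_isAffine (P := @IsIntegralHom)).1 hw).2 s
      refine ⟨p, hpm, ?_⟩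
      rw [← hγw, Over.comp_left, Scheme.Hom.comp_appTop, CommRingCat.hom_comp]
      exact (Polynomial.hom_eval₂ p _ γ'.left.appTop.hom s).symm.trans (by rw [hps, map_zero])
  let e : Γ(N.left, ⊤) ≃+* u.left.appTop.hom.range :=
    RingEquiv.ofBijective u.left.appTop.hom.rangeRestrict
      ⟨fun x y h => hinj (congrArg Subtype.val h), u.left.appTop.hom.rangeRestrict_surjective⟩
  let lam : Γ((hr.rep.pullback (𝟙 ((yon S).obj O))).left, ⊤) ⟶ Γ(N.left, ⊤) :=
    CommRingCat.ofHom (e.symm.toRingHom.comp (γ'.left.appTop.hom.codRestrict u.left.appTop.hom.range hkey))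
  have hlam : lam ≫ u.left.appTop = γ'.left.appTop := by
    ext s
    exact congrArg Subtype.val (e.apply_symm_apply ⟨γ'.left.appTop s, hkey s⟩)
  obtain ⟨h₀, hh₀⟩ := exists_hom_appTop lam
  haveI : Mono u.left.appTop := ConcreteCategory.mono_of_injective _ hinj
  have hguν : u ≫ ν = k := (yon S).map_injective (by rw [Functor.map_comp, ← hg, Category.assoc, hgν, hk])
  have hh₀w : h₀ ≫ w.left = ν.left := ext_of_isAffine (by
    rw [← cancel_mono u.left.appTop, Scheme.Hom.comp_appTop, hh₀, Category.assoc, hlam,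
      ← Scheme.Hom.comp_appTop, ← Scheme.Hom.comp_appTop, ← Over.comp_left, ← Over.comp_left, hγw, hguν])
  let h : N ⟶ hr.rep.pullback (𝟙 ((yon S).obj O)) := Over.homMk h₀ (by
    rw [← Over.w w, reassoc_of% hh₀w, Over.w ν])
  have huh : u ≫ h = γ' := Over.OverMorphism.ext (ext_of_isAffine (by
    rw [Over.comp_left, Scheme.Hom.comp_appTop]
    exact (congrArg (· ≫ u.left.appTop) hh₀).trans hlam))
  have hhw : h ≫ w = ν := Over.OverMorphism.ext hh₀w
  refine ⟨(yon S).map h ≫ E.hom, ⟨?_, ?_⟩, ?_⟩
  · rw [← cancel_epi a, reassoc_of% hg, ← Functor.map_comp_assoc, huh, hγ', Category.assoc, Category.assoc,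
      E.inv_hom_id, Category.comp_id]
  · rw [Category.assoc, hwq, ← Functor.map_comp, hhw]
  · rintro h' ⟨h₁, h₂⟩
    obtain ⟨h'', hh''⟩ := (yon S).map_surjective (h' ≫ E.inv)
    have hh : h' = (yon S).map h'' ≫ E.hom := by rw [hh'', Category.assoc, E.inv_hom_id, Category.comp_id]
    have c₁ : u ≫ h'' = γ' := (yon S).map_injective (by
      rw [Functor.map_comp, hh'', ← hg, Category.assoc, reassoc_of% h₁, hγ'])
    rw [hh]
    congr 2
    refine Over.OverMorphism.ext (ext_of_isAffine ?_)
    rw [← cancel_mono u.left.appTop, ← Scheme.Hom.comp_appTop, ← Scheme.Hom.comp_appTop, ← Over.comp_left,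
      ← Over.comp_left, c₁, huh]

/-- The normalization of an affine scheme in a quasi-compact quasi-separated space over it exists as an affine
scheme, and stays a normalization after smooth base change to affine schemes. -/
theorem exists_affine_normalization_smooth {O : Over S} [IsAffine O.left] {P : Sp S} (hP : IsAlgSpace P)
    (π : P ⟶ (yon S).obj O) (hPc : IsQuasiCompactSp P) (hqs : IsQuasiSeparatedMor π) :
    ∃ (N : Over S) (ν : N ⟶ O) (g : P ⟶ (yon S).obj N) (hfac : g ≫ (yon S).map ν = π),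
      IsAffine N.left ∧ IsIntegralHom ν.left ∧
        ∀ (O' : Over S), IsAffine O'.left → ∀ e : O' ⟶ O, Smooth e.left → BC hfac ((yon S).map e) := by
  obtain ⟨T, a, hT, hae, has⟩ := exists_affine_atlas hPc
  obtain ⟨k, hk⟩ := (yon S).map_surjective (a ≫ π)
  haveI : Epi a := epi_of_etale_surjective hae has
  have sqk := (IsPullback.of_hasPullback k k).map (yon S)
  let hh : (yon S).obj (pullback k k) ⟶ pullback π π := pullback.lift ((yon S).map (pullback.fst k k) ≫ a)
    ((yon S).map (pullback.snd k k) ≫ a) (by rw [Category.assoc, Category.assoc, ← hk]; exact sqk.w)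
  haveI : IsAffine (pullback k k).left := IsAffine.of_isPullback
    ((IsPullback.of_hasPullback k k).map (Over.forget S)) (X := T.left) (Y := T.left) (Z := O.left)
  haveI : QuasiCompact (hqs.rep.snd hh).left := hqs.property_snd hh
  haveI : CompactSpace (hqs.rep.pullback hh).left := QuasiCompact.compactSpace_of_compactSpace (hqs.rep.snd hh).left
  obtain ⟨R, ρ₀, hR, hρe, hρs⟩ := exists_affine_atlas (isQuasiCompactSp_yon (hqs.rep.pullback hh))
  haveI : Epi ρ₀ := epi_of_etale_surjective hρe hρs
  obtain ⟨ρ, rfl⟩ := (yon S).map_surjective ρ₀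
  let p₁ : R ⟶ T := ρ ≫ hqs.rep.snd hh ≫ pullback.fst k k
  let p₂ : R ⟶ T := ρ ≫ hqs.rep.snd hh ≫ pullback.snd k k
  have sqd := hqs.rep.isPullback hh
  have hd₁ : hqs.rep.fst hh = (yon S).map (hqs.rep.snd hh ≫ pullback.fst k k) ≫ a := by
    have := sqd.w =≫ pullback.fst π π
    simpa [hh] using this
  have hd₂ : hqs.rep.fst hh = (yon S).map (hqs.rep.snd hh ≫ pullback.snd k k) ≫ a := by
    have := sqd.w =≫ pullback.snd π π
    simpa [hh] using this
  have hp : (yon S).map p₁ ≫ a = (yon S).map p₂ ≫ a := by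
    simp only [p₁, p₂, (yon S).map_comp ρ, Category.assoc, ← hd₁, ← hd₂]
  have hpk : p₁ ≫ k = p₂ ≫ k := (yon S).map_injective (by
    rw [(yon S).map_comp p₁ k, (yon S).map_comp p₂ k, hk, reassoc_of% hp])
  let A := Γ(O.left, ⊤)
  let φk := k.left.appTop
  let φD := k.left.appTop ≫ p₁.left.appTop
  letI : Algebra A Γ(T.left, ⊤) := φk.hom.toAlgebra
  letI : Algebra A Γ(R.left, ⊤) := φD.hom.toAlgebra
  have hφ₂ : k.left.appTop ≫ p₂.left.appTop = φD := by
    simp only [φD, ← Scheme.Hom.comp_appTop, ← Over.comp_left, hpk]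
  let g₁ : Γ(T.left, ⊤) →ₐ[A] Γ(R.left, ⊤) := { p₁.left.appTop.hom with commutes' := fun _ => rfl }
  let g₂ : Γ(T.left, ⊤) →ₐ[A] Γ(R.left, ⊤) :=
    { p₂.left.appTop.hom with commutes' := fun x => congr($hφ₂ x) }
  let M : CommRingCat.{u} := CommRingCat.of (icEq g₁ g₂)
  let αM : A ⟶ M := CommRingCat.ofHom (algebraMap A (icEq g₁ g₂))
  let ιM : M ⟶ Γ(T.left, ⊤) := CommRingCat.ofHom (icEqVal g₁ g₂).toRingHom
  have hαι : αM ≫ ιM = k.left.appTop := rfl
  obtain ⟨ν₀, hν₀⟩ := exists_hom_appTop (X := Spec M) (T := O.left) (αM ≫ (Scheme.ΓSpecIso M).inv)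
  let N : Over S := Over.mk (ν₀ ≫ O.hom)
  haveI : IsAffine N.left := inferInstanceAs (IsAffine (Spec M))
  let ν : N ⟶ O := Over.homMk ν₀ rfl
  haveI hνi : IsIntegralHom ν.left := by
    rw [HasAffineProperty.iff_of_isAffine (P := @IsIntegralHom)]
    refine ⟨inferInstance, ?_⟩
    show ν₀.appTop.hom.IsIntegral
    rw [hν₀, CommRingCat.hom_comp]
    refine RingHom.IsIntegral.trans _ _ ?_ (RingHom.isIntegral_of_surjective _
      (ConcreteCategory.bijective_of_isIso (Scheme.ΓSpecIso M).inv).surjective)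
    intro x
    exact Algebra.IsIntegral.isIntegral x
  obtain ⟨u₀, hu₀⟩ := exists_hom_appTop (X := T.left) (T := Spec M) ((Scheme.ΓSpecIso M).hom ≫ ιM)
  have hu₀ν : u₀ ≫ ν₀ = k.left := ext_of_isAffine (by
    rw [Scheme.Hom.comp_appTop, hν₀, hu₀, Category.assoc, Iso.inv_hom_id_assoc, hαι])
  let u : T ⟶ N := Over.homMk u₀ (by
    show u₀ ≫ ν₀ ≫ O.hom = T.hom
    rw [reassoc_of% hu₀ν, Over.w k])
  have huν : u ≫ ν = k := Over.OverMorphism.ext hu₀ν
  have hpu : p₁ ≫ u = p₂ ≫ u := Over.OverMorphism.ext (ext_of_isAffine (Y := N.left) (by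
    show (p₁.left ≫ u₀).appTop = (p₂.left ≫ u₀).appTop
    rw [Scheme.Hom.comp_appTop, Scheme.Hom.comp_appTop, hu₀, Category.assoc, Category.assoc]
    congr 1
    ext m
    exact m.1.2))
  have hag : ∀ {K : Sp S} (b₁ b₂ : K ⟶ (yon S).obj T), b₁ ≫ a = b₂ ≫ a →
      b₁ ≫ (yon S).map u = b₂ ≫ (yon S).map u := by
    intro K b₁ b₂ hb
    let l := sqk.lift b₁ b₂ (by rw [hk, reassoc_of% hb])
    let r := sqd.lift (b₁ ≫ a) l (by
      apply pullback.hom_ext
      · simp [hh, l]
      · simp [hh, l, hb])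
    have hr₁ : r ≫ (yon S).map (hqs.rep.snd hh ≫ pullback.fst k k) = b₁ := by
      rw [Functor.map_comp, sqd.lift_snd_assoc, sqk.lift_fst]
    have hr₂ : r ≫ (yon S).map (hqs.rep.snd hh ≫ pullback.snd k k) = b₂ := by
      rw [Functor.map_comp, sqd.lift_snd_assoc, sqk.lift_snd]
    rw [← hr₁, ← hr₂, Category.assoc, Category.assoc]
    congr 1
    rw [← cancel_epi ((yon S).map ρ), ← Functor.map_comp, ← Functor.map_comp, ← Functor.map_comp,
      ← Functor.map_comp]
    exact congrArg (yon S).map hpu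
  have : EffectiveEpi a := by
    have := IsRegularEpiCategory.regularEpiOfEpi a
    infer_instance
  let g : P ⟶ (yon S).obj N := EffectiveEpi.desc a ((yon S).map u) fun b₁ b₂ h => hag b₁ b₂ h
  have hg : a ≫ g = (yon S).map u := EffectiveEpi.fac a _ _
  have hfac : g ≫ (yon S).map ν = π := by
    rw [← cancel_epi a, reassoc_of% hg, ← Functor.map_comp, huν, hk]
  refine ⟨N, ν, g, hfac, inferInstance, inferInstance, fun O' hO' e he => ?_⟩
  -- base change to `O'`
  have sP := IsPullback.of_hasPullback π ((yon S).map e)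
  have HT := IsPullback.of_hasPullback k e
  have HR := IsPullback.of_hasPullback (p₁ ≫ k) e
  have HN := IsPullback.of_hasPullback ν e
  have sT := HT.map (yon S)
  have sN := HN.map (yon S)
  haveI : IsAffine (pullback k e).left := IsAffine.of_isPullback (HT.map (Over.forget S))
    (X := T.left) (Y := O'.left) (Z := O.left)
  haveI : IsAffine (pullback ν e).left := IsAffine.of_isPullback (HN.map (Over.forget S))
    (X := N.left) (Y := O'.left) (Z := O.left)
  haveI : IsIntegralHom (pullback.snd ν e).left :=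
    MorphismProperty.of_isPullback (P := @IsIntegralHom) (HN.map (Over.forget S)) hνi
  let a' : (yon S).obj (pullback k e) ⟶ pullback π ((yon S).map e) :=
    pullback.lift ((yon S).map (pullback.fst k e) ≫ a) ((yon S).map (pullback.snd k e))
      (by rw [Category.assoc, ← hk]; exact sT.w)
  have ha' : IsPullback a' ((yon S).map (pullback.fst k e)) (pullback.fst π ((yon S).map e)) a := by
    refine (IsPullback.of_bot ?_ (pullback.lift_fst _ _ _).symm sP).flip
    rw [pullback.lift_snd, ← hk]
    exact sT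
  haveI : Epi a' := epi_of_etale_surjective (repWith_of_isPullback ha'.flip hae) (repWith_of_isPullback ha'.flip has)
  let q₁ : pullback (p₁ ≫ k) e ⟶ pullback k e := pullback.lift (pullback.fst _ _ ≫ p₁) (pullback.snd _ _)
    ((Category.assoc _ _ _).trans pullback.condition)
  let q₂ : pullback (p₁ ≫ k) e ⟶ pullback k e := pullback.lift (pullback.fst _ _ ≫ p₂) (pullback.snd _ _)
    (((Category.assoc _ _ _).trans (congrArg (pullback.fst (p₁ ≫ k) e ≫ ·) hpk.symm)).trans pullback.condition)
  let u' : pullback k e ⟶ pullback ν e := pullback.lift (pullback.fst k e ≫ u) (pullback.snd k e)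
    (by rw [Category.assoc, huν, pullback.condition])
  let g' : pullback π ((yon S).map e) ⟶ (yon S).obj (pullback ν e) :=
    sN.lift (pullback.fst _ _ ≫ g) (pullback.snd _ _) (by rw [Category.assoc, hfac, pullback.condition])
  refine BC.mk_of_squares hfac sP sN (gV := g') (IsPullback.lift_fst _ _ _ _) ?_
  -- the sections
  letI : Algebra A Γ(O'.left, ⊤) := e.left.appTop.hom.toAlgebra
  haveI : Algebra.Smooth A Γ(O'.left, ⊤) := by
    have h : e.left.appTop.hom.Smooth := HasRingHomProperty.appTop (P := @Smooth) _ he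
    exact h
  haveI : IsAffine ((Over.forget S).obj T) := hT
  haveI : IsAffine ((Over.forget S).obj R) := hR
  haveI : IsAffine ((Over.forget S).obj O') := hO'
  haveI : IsAffine ((Over.forget S).obj O) := ‹IsAffine O.left›
  haveI : IsAffine ((Over.forget S).obj N) := ‹IsAffine N.left›
  have pT := (isPushout_appTop_of_isPullback (HT.map (Over.forget S))).flip
  have pR := (isPushout_appTop_of_isPullback (HR.map (Over.forget S)) (X := R.left) (Y := O'.left) (Z := O.left)).flip
  have pN := (isPushout_appTop_of_isPullback (HN.map (Over.forget S))).flip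
  have hPD : IsPushout e.left.appTop (CommRingCat.ofHom (algebraMap A Γ(R.left, ⊤)))
      (pullback.snd (p₁ ≫ k) e).left.appTop (pullback.fst (p₁ ≫ k) e).left.appTop :=
    IsPushout.of_iso pR (Iso.refl _) (Iso.refl _) (Iso.refl _) (Iso.refl _) (by simp) (by
      simp only [Iso.refl_hom, Category.id_comp, Category.comp_id]
      show (p₁ ≫ k).left.appTop = _
      rw [Over.comp_left, Scheme.Hom.comp_appTop]
      rfl) (by simp) (by simp)
  have hPM : IsPushout e.left.appTop αM (pullback.snd ν e).left.appTop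
      ((Scheme.ΓSpecIso M).inv ≫ (pullback.fst ν e).left.appTop) :=
    IsPushout.of_iso pN (Iso.refl _) (Iso.refl _) (Scheme.ΓSpecIso M) (Iso.refl _) (by simp) (by
      simp only [Iso.refl_hom, Category.id_comp]
      show ν₀.appTop ≫ (Scheme.ΓSpecIso M).hom = αM
      rw [hν₀, Category.assoc, Iso.inv_hom_id, Category.comp_id]) (by simp) (by simp)
  have hq₁l : (pullback.snd k e).left.appTop ≫ q₁.left.appTop = (pullback.snd (p₁ ≫ k) e).left.appTop := by
    rw [← Scheme.Hom.comp_appTop, ← Over.comp_left, pullback.lift_snd]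
  have hq₂l : (pullback.snd k e).left.appTop ≫ q₂.left.appTop = (pullback.snd (p₁ ≫ k) e).left.appTop := by
    rw [← Scheme.Hom.comp_appTop, ← Over.comp_left, pullback.lift_snd]
  have hq₁r : (pullback.fst k e).left.appTop ≫ q₁.left.appTop =
      p₁.left.appTop ≫ (pullback.fst (p₁ ≫ k) e).left.appTop := by
    rw [← Scheme.Hom.comp_appTop, ← Scheme.Hom.comp_appTop, ← Over.comp_left, ← Over.comp_left, pullback.lift_fst]
  have hq₂r : (pullback.fst k e).left.appTop ≫ q₂.left.appTop =
      p₂.left.appTop ≫ (pullback.fst (p₁ ≫ k) e).left.appTop := by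
    rw [← Scheme.Hom.comp_appTop, ← Scheme.Hom.comp_appTop, ← Over.comp_left, ← Over.comp_left, pullback.lift_fst]
  have hul : (pullback.snd ν e).left.appTop ≫ u'.left.appTop = (pullback.snd k e).left.appTop := by
    rw [← Scheme.Hom.comp_appTop, ← Over.comp_left, pullback.lift_snd]
  have hur : ((Scheme.ΓSpecIso M).inv ≫ (pullback.fst ν e).left.appTop) ≫ u'.left.appTop =
      ιM ≫ (pullback.fst k e).left.appTop := by
    rw [Category.assoc, ← Scheme.Hom.comp_appTop, ← Over.comp_left, pullback.lift_fst, Over.comp_left,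
      Scheme.Hom.comp_appTop]
    show (Scheme.ΓSpecIso M).inv ≫ u₀.appTop ≫ _ = _
    rw [hu₀, Category.assoc, Iso.inv_hom_id_assoc]
  obtain ⟨hinj, hrange⟩ := exists_of_isPushout g₁ g₂ (B := Γ(O'.left, ⊤)) (Iso.refl _) (pC := pT) (pD := hPD)
    (pM := hPM) (p₁ := q₁.left.appTop) (p₂ := q₂.left.appTop) hq₁l hq₁r hq₂l hq₂r (ι := u'.left.appTop) hul hur
  refine isRelNormalization_affine (O := O') (T := pullback k e) (N := pullback ν e) (a := a')
    (pullback.lift_snd _ _ _).symm q₁ q₂ ?_ (u := u') ?_ (IsPullback.lift_snd _ _ _ _) hinj hrange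
  · apply pullback.hom_ext
    · simp only [a', Category.assoc, pullback.lift_fst, ← Functor.map_comp_assoc, q₁, q₂]
      simp only [Functor.map_comp, Category.assoc, hp]
    · simp only [a', Category.assoc, pullback.lift_snd, ← Functor.map_comp, q₁, q₂]
  · refine sN.hom_ext ?_ ?_
    · rw [Category.assoc, IsPullback.lift_fst, pullback.lift_fst_assoc, Category.assoc, hg, ← Functor.map_comp,
        ← Functor.map_comp, pullback.lift_fst]
    · rw [Category.assoc, IsPullback.lift_snd, pullback.lift_snd, ← Functor.map_comp, pullback.lift_snd]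

/-- The normalization of an affine scheme in a quasi-compact quasi-separated space over it exists as an affine
scheme, and stays a normalization after etale base change to affine schemes. -/
theorem exists_affine_normalization {O : Over S} [IsAffine O.left] {P : Sp S} (hP : IsAlgSpace P)
    (π : P ⟶ (yon S).obj O) (hPc : IsQuasiCompactSp P) (hqs : IsQuasiSeparatedMor π) :
    ∃ (N : Over S) (ν : N ⟶ O) (g : P ⟶ (yon S).obj N) (hfac : g ≫ (yon S).map ν = π),
      IsAffine N.left ∧ IsIntegralHom ν.left ∧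
        ∀ (O' : Over S), IsAffine O'.left → ∀ e : O' ⟶ O, Etale e.left → BC hfac ((yon S).map e) := by
  obtain ⟨N, ν, g, hfac, h₁, h₂, h₃⟩ := exists_affine_normalization_smooth hP π hPc hqs
  exact ⟨N, ν, g, hfac, h₁, h₂, fun O' hO' e he => h₃ O' hO' e (haveI := he; inferInstance)⟩

end Groth.Agent.AlgSpDec.RelNorm
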