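import Groth.Agent.AlgSpDec.RelNorm.GlueHom
import Groth.Agent.AlgSpDec.AffineRep
import Groth.Prelude.Def_AlgSpMor5

/-!
# Relative normalization and base change; locality
-/

set_option autoImplicit false
set_option backward.isDefEq.respectTransparency false
set_option backward.isDefEq.respectTransparency.types false

universe u

open CategoryTheory CategoryTheory.Limits AlgebraicGeometry AlgSp Groth.Agent.AlgSpLib Groth.Agent.AlgSpPts

namespace Groth.Agent.AlgSpDec.RelNorm

variable {S : Scheme.{u}} {X Y X' : Sp S} {f : Y ⟶ X} {ν : X' ⟶ X} {f' : Y ⟶ X'}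

/-- Transport of a relative normalization along isomorphisms. -/
theorem isRelNormalization_of_iso (h : IsRelNormalization f ν f') {Y₁ X₁ : Sp S} {f₁ : Y₁ ⟶ X}
    {ν₁ : X₁ ⟶ X} {f₁' : Y₁ ⟶ X₁} (eY : Y₁ ≅ Y) (eX : X₁ ≅ X') (w₁ : eY.hom ≫ f = f₁)
    (w₂ : eX.hom ≫ ν = ν₁) (w₃ : f₁' ≫ eX.hom = eY.hom ≫ f') : IsRelNormalization f₁ ν₁ f₁' := by
  obtain ⟨hf, hν, hu⟩ := h
  refine ⟨by rw [← w₂, reassoc_of% w₃, hf, w₁], isIntegralMor_iff_repWith.2 (by
    rw [← w₂]
    exact repWith_comp (repWith_of_isIso @IsIntegralHom eX.hom) (isIntegralMor_iff_repWith.1 hν)),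
    fun Z hZ π g hπ hg => ?_⟩
  obtain ⟨k, ⟨hk1, hk2⟩, hku⟩ := hu hZ π (eY.inv ≫ g) hπ (by rw [Category.assoc, hg, ← w₁, eY.inv_hom_id_assoc])
  refine ⟨eX.hom ≫ k, ⟨by rw [reassoc_of% w₃, hk1, eY.hom_inv_id_assoc], by rw [Category.assoc, hk2, w₂]⟩,
    fun k' hk' => ?_⟩
  rw [← hku (eX.inv ≫ k') ⟨?_, by rw [Category.assoc, hk'.2, ← w₂, eX.inv_hom_id_assoc]⟩, eX.hom_inv_id_assoc]
  rw [← cancel_epi eY.hom, eY.hom_inv_id_assoc, ← hk'.1, ← reassoc_of% w₃, eX.hom_inv_id_assoc]

/-- The base change of a factorization. -/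
noncomputable def bcMap (hfac : f' ≫ ν = f) {V : Sp S} (b : V ⟶ X) : pullback f b ⟶ pullback ν b :=
  pullback.lift (pullback.fst f b ≫ f') (pullback.snd f b) (by rw [Category.assoc, hfac, pullback.condition])

theorem bcMap_fst (hfac : f' ≫ ν = f) {V : Sp S} (b : V ⟶ X) :
    bcMap hfac b ≫ pullback.fst ν b = pullback.fst f b ≫ f' := pullback.lift_fst _ _ _

theorem bcMap_snd (hfac : f' ≫ ν = f) {V : Sp S} (b : V ⟶ X) :
    bcMap hfac b ≫ pullback.snd ν b = pullback.snd f b := pullback.lift_snd _ _ _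

/-- The base change along `b` is a relative normalization. -/
def BC (hfac : f' ≫ ν = f) {V : Sp S} (b : V ⟶ X) : Prop :=
  IsRelNormalization (pullback.snd f b) (pullback.snd ν b) (bcMap hfac b)

/-- After base change along `b`, maps to integral spaces are determined by their restriction to the source. -/
def UniqAt (hfac : f' ≫ ν = f) {V : Sp S} (b : V ⟶ X) : Prop :=
  ∀ ⦃Z : Sp S⦄, IsAlgSpace Z → ∀ (π : Z ⟶ V), IsIntegralMor π → ∀ (k k' : pullback ν b ⟶ Z),
    k ≫ π = pullback.snd ν b → k' ≫ π = pullback.snd ν b → bcMap hfac b ≫ k = bcMap hfac b ≫ k' → k = k'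

theorem BC.uniqAt {hfac : f' ≫ ν = f} {V : Sp S} {b : V ⟶ X} (h : BC hfac b) : UniqAt hfac b := by
  intro Z hZ π hπ k k' hk hk' he
  have hg : (bcMap hfac b ≫ k) ≫ π = pullback.snd f b := by rw [Category.assoc, hk, bcMap_snd]
  exact (h.2.2 hZ π _ hπ hg).unique ⟨rfl, hk⟩ ⟨he.symm, hk'⟩

/-- The base change is a relative normalization in terms of any pullback squares. -/
theorem BC.of_squares {hfac : f' ≫ ν = f} {V : Sp S} {b : V ⟶ X} (h : BC hfac b) {YV XV : Sp S} {a : YV ⟶ Y}
    {fV : YV ⟶ V} (sq₁ : IsPullback a fV f b) {a' : XV ⟶ X'} {νV : XV ⟶ V} (sq₂ : IsPullback a' νV ν b)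
    {gV : YV ⟶ XV} (c₁ : gV ≫ νV = fV) (c₂ : gV ≫ a' = a ≫ f') : IsRelNormalization fV νV gV := by
  refine isRelNormalization_of_iso h sq₁.isoPullback sq₂.isoPullback sq₁.isoPullback_hom_snd
    sq₂.isoPullback_hom_snd (pullback.hom_ext ?_ ?_)
  · rw [Category.assoc, sq₂.isoPullback_hom_fst, c₂, Category.assoc, bcMap_fst, sq₁.isoPullback_hom_fst_assoc]
  · rw [Category.assoc, sq₂.isoPullback_hom_snd, c₁, Category.assoc, bcMap_snd, sq₁.isoPullback_hom_snd]

theorem BC.mk_of_squares (hfac : f' ≫ ν = f) {V : Sp S} {b : V ⟶ X} {YV XV : Sp S} {a : YV ⟶ Y}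
    {fV : YV ⟶ V} (sq₁ : IsPullback a fV f b) {a' : XV ⟶ X'} {νV : XV ⟶ V} (sq₂ : IsPullback a' νV ν b)
    {gV : YV ⟶ XV} (c₂ : gV ≫ a' = a ≫ f') (h : IsRelNormalization fV νV gV) : BC hfac b := by
  refine isRelNormalization_of_iso h sq₁.isoPullback.symm sq₂.isoPullback.symm ?_ ?_ ?_
  · exact sq₁.isoPullback_inv_snd
  · exact sq₂.isoPullback_inv_snd
  · show bcMap hfac b ≫ sq₂.isoPullback.inv = sq₁.isoPullback.inv ≫ gV
    rw [Iso.comp_inv_eq]
    refine pullback.hom_ext ?_ ?_
    · rw [bcMap_fst, Category.assoc, Category.assoc, sq₂.isoPullback_hom_fst, c₂,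
        sq₁.isoPullback_inv_fst_assoc]
    · rw [bcMap_snd, Category.assoc, Category.assoc, sq₂.isoPullback_hom_snd, h.1, sq₁.isoPullback_inv_snd]

theorem isAlgSpace_of_integral {Z V : Sp S} {π : Z ⟶ V} (hπ : RepWith @IsIntegralHom π) (hV : IsAlgSpace V) :
    IsAlgSpace Z :=
  Groth.Agent.AlgSpLib.isAlgSpace_of_representable π hπ.rep hV

/-- The pieces of the base change over a jointly surjective etale family form such a family. -/
theorem exists_pieces (hν : RepWith @IsIntegralHom ν) {F : Sp S} (b : F ⟶ X) {ι : Type u} {O : ι → Over S}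
    (c : ∀ i, (yon S).obj (O i) ⟶ F) (hc : ∀ i, RepWith @Etale (c i))
    (hs : ∀ p, ∃ i v, Points.ofPt (c i) v = p) :
    ∃ (A : ι → Over S) (α : ∀ i, (yon S).obj (A i) ≅ pullback ν (c i ≫ b))
      (a : ∀ i, (yon S).obj (A i) ⟶ pullback ν b),
      (∀ i, a i = (α i).hom ≫ pullback.lift (pullback.fst ν (c i ≫ b)) (pullback.snd ν (c i ≫ b) ≫ c i)
        (by rw [Category.assoc]; exact pullback.condition)) ∧
      (∀ i, RepWith @Etale (a i)) ∧ ∀ p, ∃ i v, Points.ofPt (a i) v = p := by
  let α : ∀ i, (yon S).obj (hν.rep.pullback (c i ≫ b)) ≅ pullback ν (c i ≫ b) := fun i =>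
    (hν.rep.isPullback (c i ≫ b)).isoPullback
  let m : ∀ i, pullback ν (c i ≫ b) ⟶ pullback ν b := fun i => pullback.lift (pullback.fst ν (c i ≫ b))
    (pullback.snd ν (c i ≫ b) ≫ c i) (by rw [Category.assoc]; exact pullback.condition)
  have hm : ∀ i, IsPullback (m i) (pullback.snd ν (c i ≫ b)) (pullback.snd ν b) (c i) := fun i => by
    refine IsPullback.of_right ?_ (pullback.lift_snd _ _ _) (IsPullback.of_hasPullback ν b)
    rw [pullback.lift_fst]
    exact IsPullback.of_hasPullback ν (c i ≫ b)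
  refine ⟨_, α, fun i => (α i).hom ≫ m i, fun i => rfl, fun i =>
    repWith_comp (repWith_of_isIso _ _) (repWith_of_isPullback (hm i).flip (hc i)), fun p => ?_⟩
  obtain ⟨i, v, hv⟩ := hs (Points.map (pullback.snd ν b) p)
  obtain ⟨z, hz, -⟩ := exists_point_of_isPullback (hm i) (x := p) (y := Points.ofScheme (O i) v)
    (by rw [← Points.ofPt_eq_map_ofScheme, hv])
  obtain ⟨w, hw⟩ := (Points.schemeEquiv _).surjective (Points.map (α i).inv z)
  refine ⟨i, w, ?_⟩
  rw [Points.ofPt_eq_map_ofScheme, show Points.ofScheme _ w = Points.map (α i).inv z from hw, ← Points.map_comp,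
    Iso.inv_hom_id_assoc, hz]

/-- Uniqueness is local. -/
theorem uniqAt_of_family (hX : IsAlgSpace X) (hν : RepWith @IsIntegralHom ν) (hfac : f' ≫ ν = f) {F : Sp S}
    (hF : IsAlgSpace F) (b : F ⟶ X) {ι : Type u} {O : ι → Over S} (c : ∀ i, (yon S).obj (O i) ⟶ F)
    (hc : ∀ i, RepWith @Etale (c i)) (hs : ∀ p, ∃ i v, Points.ofPt (c i) v = p)
    (h : ∀ i, UniqAt hfac (c i ≫ b)) : UniqAt hfac b := by
  intro Z hZ π hπ k k' hk hk' he
  obtain ⟨A, α, a, ha, hae, has⟩ := exists_pieces hν b c hc hs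
  refine hom_ext_of_family (isAlgSpace_pullback (isAlgSpace_of_integral hν hX) hF hX ν b) a hae has fun i => ?_
  rw [ha]
  refine (Category.assoc _ _ _).trans (Eq.trans ?_ (Category.assoc _ _ _).symm)
  congr 1
  let m := pullback.lift (f := ν) (g := b) (pullback.fst ν (c i ≫ b)) (pullback.snd ν (c i ≫ b) ≫ c i)
    (by rw [Category.assoc]; exact pullback.condition)
  let mf := pullback.lift (f := f) (g := b) (pullback.fst f (c i ≫ b)) (pullback.snd f (c i ≫ b) ≫ c i)
    (by rw [Category.assoc]; exact pullback.condition)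
  have hm : bcMap hfac (c i ≫ b) ≫ m = mf ≫ bcMap hfac b := by
    refine pullback.hom_ext ?_ ?_
    · rw [Category.assoc, pullback.lift_fst, bcMap_fst, Category.assoc, bcMap_fst, pullback.lift_fst_assoc]
    · rw [Category.assoc, pullback.lift_snd, ← Category.assoc, bcMap_snd, Category.assoc, bcMap_snd,
        pullback.lift_snd]
  have hw : ∀ l : pullback ν b ⟶ Z, l ≫ π = pullback.snd ν b → (m ≫ l) ≫ π = pullback.snd ν (c i ≫ b) ≫ c i :=
    fun l hl => by rw [Category.assoc, hl, pullback.lift_snd]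
  let l := pullback.lift (m ≫ k) (pullback.snd ν (c i ≫ b)) (hw k hk)
  let l' := pullback.lift (m ≫ k') (pullback.snd ν (c i ≫ b)) (hw k' hk')
  have := h i (isAlgSpace_pullback hZ (IsAlgSpace.yon_obj _) hF π (c i)) (pullback.snd π (c i))
    (isIntegralMor_iff_repWith.2 (repWith_snd (c i) (isIntegralMor_iff_repWith.1 hπ))) l l'
    (pullback.lift_snd _ _ _) (pullback.lift_snd _ _ _) (by
      refine pullback.hom_ext ?_ ?_
      · rw [Category.assoc, pullback.lift_fst, Category.assoc, pullback.lift_fst, reassoc_of% hm,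
          reassoc_of% hm, he]
      · rw [Category.assoc, pullback.lift_snd, Category.assoc, pullback.lift_snd])
  have := this =≫ pullback.fst π (c i)
  rwa [pullback.lift_fst, pullback.lift_fst] at this

/-- A factorization which is a normalization on a jointly surjective etale family of schemes, and has the
uniqueness property on the overlaps, is a normalization. -/
theorem isRelNormalization_of_family (hX : IsAlgSpace X) (hY₀ : IsAlgSpace Y) (hν : RepWith @IsIntegralHom ν) (hfac : f' ≫ ν = f)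
    {ι : Type u} {O : ι → Over S} (b : ∀ i, (yon S).obj (O i) ⟶ X) (hb : ∀ i, RepWith @Etale (b i))
    (hs : ∀ p, ∃ i v, Points.ofPt (b i) v = p) (hBC : ∀ i, BC hfac (b i))
    (hU : ∀ i j, UniqAt hfac ((hb i).rep.fst (b j) ≫ b i)) : IsRelNormalization f ν f' := by
  refine ⟨hfac, isIntegralMor_iff_repWith.2 hν, fun Z hZ π g hπ hg => ?_⟩
  have hX' := isAlgSpace_of_integral hν hX
  have hπr := isIntegralMor_iff_repWith.1 hπ
  have hex : ∀ i, ∃! k : pullback ν (b i) ⟶ pullback π (b i),
      bcMap hfac (b i) ≫ k = pullback.lift (pullback.fst f (b i) ≫ g) (pullback.snd f (b i))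
        (by rw [Category.assoc, hg, pullback.condition]) ∧ k ≫ pullback.snd π (b i) = pullback.snd ν (b i) :=
    fun i => (hBC i).2.2 (isAlgSpace_pullback hZ (IsAlgSpace.yon_obj _) hX π (b i)) _ _
      (isIntegralMor_iff_repWith.2 (repWith_snd (b i) hπr)) (pullback.lift_snd _ _ _)
  choose k₀ hk₀ hk₀u using hex
  let α : ∀ i, (yon S).obj (hν.rep.pullback (b i)) ≅ pullback ν (b i) := fun i =>
    (hν.rep.isPullback (b i)).isoPullback
  let a : ∀ i, (yon S).obj (hν.rep.pullback (b i)) ⟶ X' := fun i => hν.rep.fst (b i)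
  have hae : ∀ i, RepWith @Etale (a i) := fun i => repWith_of_isPullback (hν.rep.isPullback (b i)).flip (hb i)
  have has : ∀ p, ∃ i v, Points.ofPt (a i) v = p := fun p => by
    obtain ⟨i, v, hv⟩ := hs (Points.map ν p)
    obtain ⟨z, hz, -⟩ := exists_point_of_isPullback (hν.rep.isPullback (b i)) (x := p)
      (y := Points.ofScheme (O i) v) (by rw [← Points.ofPt_eq_map_ofScheme, hv])
    obtain ⟨w, rfl⟩ := (Points.schemeEquiv _).surjective z
    exact ⟨i, w, (Points.ofPt_eq_map_ofScheme _ _).trans hz⟩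
  have hαa : ∀ i, (α i).hom ≫ pullback.fst ν (b i) = a i := fun i => IsPullback.isoPullback_hom_fst _
  let k : ∀ i, (yon S).obj (hν.rep.pullback (b i)) ⟶ Z := fun i => (α i).hom ≫ k₀ i ≫ pullback.fst π (b i)
  obtain ⟨K, hK⟩ := exists_glue hX' a hae has k (by
    intro i j T x y hxy
    let R := (hb i).rep.pullback (b j)
    have sqR := (hb i).rep.isPullback (b j)
    let r : (yon S).obj T ⟶ (yon S).obj R := sqR.lift ((yon S).map x ≫ (α i).hom ≫ pullback.snd ν (b i))
      ((yon S).map y ≫ (α j).hom ≫ pullback.snd ν (b j)) (by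
        simp only [Category.assoc, ← pullback.condition, reassoc_of% (hαa i), reassoc_of% (hαa j)]
        rw [reassoc_of% hxy])
    let b₀ : (yon S).obj R ⟶ X := (hb i).rep.fst (b j) ≫ b i
    have hb₀ : (yon S).map ((hb i).rep.snd (b j)) ≫ b j = b₀ := sqR.w.symm
    let z : (yon S).obj T ⟶ pullback ν b₀ := pullback.lift ((yon S).map x ≫ a i) r (by
      rw [sqR.lift_fst_assoc]
      simp only [Category.assoc, ← pullback.condition, reassoc_of% (hαa i)])
    let mi : pullback ν b₀ ⟶ pullback ν (b i) := pullback.lift (pullback.fst ν b₀)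
      (pullback.snd ν b₀ ≫ (hb i).rep.fst (b j)) (by rw [Category.assoc]; exact pullback.condition)
    let mj : pullback ν b₀ ⟶ pullback ν (b j) := pullback.lift (pullback.fst ν b₀)
      (pullback.snd ν b₀ ≫ (yon S).map ((hb i).rep.snd (b j))) (by rw [Category.assoc, hb₀]; exact pullback.condition)
    have hzi : z ≫ mi = (yon S).map x ≫ (α i).hom := by
      refine pullback.hom_ext ?_ ?_
      · rw [Category.assoc, pullback.lift_fst, pullback.lift_fst, Category.assoc, hαa]
      · rw [Category.assoc, pullback.lift_snd, pullback.lift_snd_assoc, sqR.lift_fst, Category.assoc]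
    have hzj : z ≫ mj = (yon S).map y ≫ (α j).hom := by
      refine pullback.hom_ext ?_ ?_
      · rw [Category.assoc, pullback.lift_fst, pullback.lift_fst, Category.assoc, hαa, hxy]
      · rw [Category.assoc, pullback.lift_snd, pullback.lift_snd_assoc, sqR.lift_snd, Category.assoc]
    have wi : ((mi ≫ k₀ i ≫ pullback.fst π (b i))) ≫ π = pullback.snd ν b₀ ≫ b₀ := by
      rw [Category.assoc, Category.assoc, pullback.condition, reassoc_of% (hk₀ i).2, pullback.lift_snd_assoc,
        Category.assoc]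
    have wj : ((mj ≫ k₀ j ≫ pullback.fst π (b j))) ≫ π = pullback.snd ν b₀ ≫ b₀ := by
      rw [Category.assoc, Category.assoc, pullback.condition, reassoc_of% (hk₀ j).2, pullback.lift_snd_assoc,
        Category.assoc, hb₀]
    have key : mi ≫ k₀ i ≫ pullback.fst π (b i) = mj ≫ k₀ j ≫ pullback.fst π (b j) := by
      have := hU i j (isAlgSpace_pullback hZ (IsAlgSpace.yon_obj _) hX π b₀) (pullback.snd π b₀)
        (isIntegralMor_iff_repWith.2 (repWith_snd b₀ hπr)) (pullback.lift _ _ wi) (pullback.lift _ _ wj)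
        (pullback.lift_snd _ _ _) (pullback.lift_snd _ _ _) (by
          let ni : pullback f b₀ ⟶ pullback f (b i) := pullback.lift (pullback.fst f b₀)
            (pullback.snd f b₀ ≫ (hb i).rep.fst (b j)) (by rw [Category.assoc]; exact pullback.condition)
          let nj : pullback f b₀ ⟶ pullback f (b j) := pullback.lift (pullback.fst f b₀)
            (pullback.snd f b₀ ≫ (yon S).map ((hb i).rep.snd (b j)))
            (by rw [Category.assoc, hb₀]; exact pullback.condition)
          have ei : bcMap hfac b₀ ≫ mi = ni ≫ bcMap hfac (b i) := by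
            refine pullback.hom_ext ?_ ?_
            · rw [Category.assoc, pullback.lift_fst, bcMap_fst, Category.assoc, bcMap_fst, pullback.lift_fst_assoc]
            · rw [Category.assoc, pullback.lift_snd, ← Category.assoc, bcMap_snd, Category.assoc, bcMap_snd,
                pullback.lift_snd]
          have ej : bcMap hfac b₀ ≫ mj = nj ≫ bcMap hfac (b j) := by
            refine pullback.hom_ext ?_ ?_
            · rw [Category.assoc, pullback.lift_fst, bcMap_fst, Category.assoc, bcMap_fst, pullback.lift_fst_assoc]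
            · rw [Category.assoc, pullback.lift_snd, ← Category.assoc, bcMap_snd, Category.assoc, bcMap_snd,
                pullback.lift_snd]
          refine pullback.hom_ext ?_ ?_
          · rw [Category.assoc, pullback.lift_fst, Category.assoc, pullback.lift_fst, reassoc_of% ei,
              reassoc_of% ej, reassoc_of% (hk₀ i).1, reassoc_of% (hk₀ j).1, pullback.lift_fst, pullback.lift_fst,
              pullback.lift_fst_assoc, pullback.lift_fst_assoc]
          · rw [Category.assoc, pullback.lift_snd, Category.assoc, pullback.lift_snd])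
      have := this =≫ pullback.fst π b₀
      rwa [pullback.lift_fst, pullback.lift_fst] at this
    show (yon S).map x ≫ (α i).hom ≫ _ = (yon S).map y ≫ (α j).hom ≫ _
    rw [← reassoc_of% hzi, ← reassoc_of% hzj, key])
  have hKπ : K ≫ π = ν := hom_ext_of_family hX' a hae has fun i => by
    rw [← Category.assoc, hK, Category.assoc, Category.assoc, pullback.condition, reassoc_of% (hk₀ i).2,
      ← pullback.condition, reassoc_of% (hαa i)]
  obtain ⟨R, hR⟩ : ∃ R : ∀ i, pullback ν (b i) ⟶ X', ∀ i, R i = pullback.fst ν (b i) := ⟨_, fun _ => rfl⟩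
  have hR' : ∀ i, pullback.fst ν (b i) ≫ K = k₀ i ≫ pullback.fst π (b i) := fun i => by
    rw [← cancel_epi (α i).hom, ← Category.assoc, hαa, hK]
  refine ⟨K, ⟨?_, hKπ⟩, fun K' hK' => ?_⟩
  · have hY : ∀ i, bcMap hfac (b i) ≫ pullback.fst ν (b i) ≫ K = pullback.fst f (b i) ≫ g := fun i => by
      rw [hR', reassoc_of% (hk₀ i).1, pullback.lift_fst]
    obtain ⟨U₀, q, hq, hqs⟩ := hY₀.atlas
    have : Epi q := epi_of_etale_surjective hq hqs
    rw [← cancel_epi q]
    refine hom_ext_of_family (IsAlgSpace.yon_obj U₀)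
      (fun i => (yon S).map ((hb i).rep.snd (q ≫ f))) (fun i => (repWith_yon_map_iff _ _).2 ((hb i).property_snd _))
      (fun p => ?_) fun i => ?_
    · obtain ⟨i, v, hv⟩ := hs (Points.map (q ≫ f) p)
      obtain ⟨z, -, hz⟩ := exists_point_of_isPullback ((hb i).rep.isPullback (q ≫ f))
        (x := Points.ofScheme (O i) v) (y := p) (by rw [← Points.ofPt_eq_map_ofScheme, hv])
      obtain ⟨w, rfl⟩ := (Points.schemeEquiv _).surjective z
      exact ⟨i, w, (Points.ofPt_eq_map_ofScheme _ _).trans hz⟩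
    · let l := pullback.lift (f := f) (g := b i) ((yon S).map ((hb i).rep.snd (q ≫ f)) ≫ q)
        ((hb i).rep.fst (q ≫ f)) (by rw [Category.assoc]; exact ((hb i).rep.w _).symm)
      have hl : l ≫ pullback.fst f (b i) = (yon S).map ((hb i).rep.snd (q ≫ f)) ≫ q := pullback.lift_fst _ _ _
      rw [← reassoc_of% hl, ← reassoc_of% hl, ← hY i, reassoc_of% bcMap_fst hfac (b i)]
  · refine hom_ext_of_family hX' a hae has fun i => ?_
    rw [hK, ← hαa, Category.assoc]
    congr 1
    have := hk₀u i (pullback.lift (pullback.fst ν (b i) ≫ K') (pullback.snd ν (b i))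
      (by rw [Category.assoc, hK'.2, pullback.condition])) ⟨?_, pullback.lift_snd _ _ _⟩
    · rw [← this, pullback.lift_fst]
    · refine pullback.hom_ext ?_ ?_
      · rw [Category.assoc, pullback.lift_fst, pullback.lift_fst, reassoc_of% bcMap_fst hfac (b i), hK'.1]
      · rw [Category.assoc, pullback.lift_snd, pullback.lift_snd, bcMap_snd]

end Groth.Agent.AlgSpDec.RelNorm
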