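import Groth.Agent.AlgSpDec.RelNorm.Dominant
import Groth.Agent.AlgSpLib.EtLocalInst

/-!
# Dominant integral factorizations are determined by subrings of sections on a chart
-/

set_option autoImplicit false
set_option backward.isDefEq.respectTransparency false
set_option backward.isDefEq.respectTransparency.types false

universe u

open CategoryTheory CategoryTheory.Limits AlgebraicGeometry AlgSp Groth.Agent.AlgSpLib Groth.Agent.AlgSpPts

namespace Groth.Agent.AlgSpDec.RelNorm

variable {S : Scheme.{u}} {X Y Z : Sp S} {f : Y ⟶ X} {U T : Over S} {b : (yon S).obj U ⟶ X}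
  {c : (yon S).obj T ⟶ pullback f b} {k : T ⟶ U}

/-- The map from the chart of the source to the chart of a factorization. -/
noncomputable def chartMap (hk : c ≫ pullback.snd f b = (yon S).map k) {π : Z ⟶ X} {g : Y ⟶ Z}
    (hπ : RepWith @IsIntegralHom π) (hg : g ≫ π = f) : T ⟶ hπ.rep.pullback b :=
  (exists_chart_map hk hπ hg).choose

theorem chartMap_fst (hk : c ≫ pullback.snd f b = (yon S).map k) {π : Z ⟶ X} {g : Y ⟶ Z}
    (hπ : RepWith @IsIntegralHom π) (hg : g ≫ π = f) :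
    (yon S).map (chartMap hk hπ hg) ≫ hπ.rep.fst b = c ≫ pullback.fst f b ≫ g :=
  (exists_chart_map hk hπ hg).choose_spec.1

theorem chartMap_snd (hk : c ≫ pullback.snd f b = (yon S).map k) {π : Z ⟶ X} {g : Y ⟶ Z}
    (hπ : RepWith @IsIntegralHom π) (hg : g ≫ π = f) :
    (chartMap hk hπ hg).left ≫ (hπ.rep.snd b).left = k.left := by
  rw [← Over.comp_left]
  exact congrArg (·.left) (exists_chart_map hk hπ hg).choose_spec.2

theorem chartMap_snd' (hk : c ≫ pullback.snd f b = (yon S).map k) {π : Z ⟶ X} {g : Y ⟶ Z}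
    (hπ : RepWith @IsIntegralHom π) (hg : g ≫ π = f) : chartMap hk hπ hg ≫ hπ.rep.snd b = k :=
  (exists_chart_map hk hπ hg).choose_spec.2

/-- The subrings of sections on the chart of the source cut out by a factorization. -/
noncomputable def key (hk : c ≫ pullback.snd f b = (yon S).map k) {π : Z ⟶ X} {g : Y ⟶ Z}
    (hπ : RepWith @IsIntegralHom π) (hg : g ≫ π = f) (O : U.left.affineOpens) :
    Subring Γ(T.left, k.left ⁻¹ᵁ O.1) :=
  secRange (chartMap hk hπ hg).left (hπ.rep.snd b).left (chartMap_snd hk hπ hg) O.1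

theorem exists_hom_of_key_eq (hX : IsAlgSpace X) (hY : IsAlgSpace Y) (hb : RepWith @Etale b)
    (hbs : RepWith @Surjective b) (hc : RepWith @Etale c) (hcs : RepWith @Surjective c)
    (hk : c ≫ pullback.snd f b = (yon S).map k) [QuasiCompact k.left] {Z₀ : Sp S} (hZ₀ : IsAlgSpace Z₀)
    (hZ : IsAlgSpace Z) {π₀ : Z₀ ⟶ X} {g₀ : Y ⟶ Z₀} (hπ₀ : RepWith @IsIntegralHom π₀) (hg₀ : g₀ ≫ π₀ = f)
    (hd₀ : IsSchImage g₀ (𝟙 Z₀)) {π : Z ⟶ X} {g : Y ⟶ Z} (hπ : RepWith @IsIntegralHom π) (hg : g ≫ π = f)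
    (hkey : key hk hπ₀ hg₀ = key hk hπ hg) :
    ∃ h : Z₀ ⟶ Z, g₀ ≫ h = g ∧ h ≫ π = π₀ := by
  let gQ : Y ⟶ pullback π₀ π := pullback.lift g₀ g (hg₀.trans hg.symm)
  obtain ⟨P, j, hj⟩ := exists_schImage hY (isAlgSpace_pullback hZ₀ hZ hX π₀ π) gQ
  obtain ⟨gP, hgP⟩ := hj.2.1
  have hd : IsSchImage gP (𝟙 P.obj) := dominant_of_isSchImage P.property hj hgP
  let r₀ : P.obj ⟶ Z₀ := j ≫ pullback.fst π₀ π
  let r : P.obj ⟶ Z := j ≫ pullback.snd π₀ π
  have hr₀ : gP ≫ r₀ = g₀ := by rw [reassoc_of% hgP, pullback.lift_fst]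
  have hr : gP ≫ r = g := by rw [reassoc_of% hgP, pullback.lift_snd]
  let πP : P.obj ⟶ X := r₀ ≫ π₀
  have hrπ : r ≫ π = πP := by
    simp only [r, πP, r₀, Category.assoc, pullback.condition]
  have hπP : RepWith @IsIntegralHom πP :=
    repWith_comp (repWith_comp (repWith_integral_of_closedImmersion hj.1) (repWith_fst π₀ hπ)) hπ₀
  have hgPπ : gP ≫ πP = f := by rw [← Category.assoc, hr₀, hg₀]
  let A := hπP.rep.pullback b
  let A₀ := hπ₀.rep.pullback b
  let A₁ := hπ.rep.pullback b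
  have sqP := hπP.rep.isPullback b
  have sq₀ := hπ₀.rep.isPullback b
  have sq₁ := hπ.rep.isPullback b
  haveI : IsIntegralHom (hπP.rep.snd b).left := hπP.property_snd b
  haveI : IsIntegralHom (hπ₀.rep.snd b).left := hπ₀.property_snd b
  haveI : IsIntegralHom (hπ.rep.snd b).left := hπ.property_snd b
  obtain ⟨μ₀, hμ₀⟩ := (yon S).map_surjective (sq₀.lift (hπP.rep.fst b ≫ r₀) ((yon S).map (hπP.rep.snd b))
    (by rw [Category.assoc]; exact sqP.w))
  obtain ⟨μ₁, hμ₁⟩ := (yon S).map_surjective (sq₁.lift (hπP.rep.fst b ≫ r) ((yon S).map (hπP.rep.snd b))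
    (by rw [Category.assoc, hrπ]; exact sqP.w))
  have hμ₀f : (yon S).map μ₀ ≫ hπ₀.rep.fst b = hπP.rep.fst b ≫ r₀ := by rw [hμ₀, IsPullback.lift_fst]
  have hμ₁f : (yon S).map μ₁ ≫ hπ.rep.fst b = hπP.rep.fst b ≫ r := by rw [hμ₁, IsPullback.lift_fst]
  have hμ₀s : μ₀ ≫ hπ₀.rep.snd b = hπP.rep.snd b := (yon S).map_injective (by
    rw [Functor.map_comp, hμ₀, IsPullback.lift_snd])
  have hμ₁s : μ₁ ≫ hπ.rep.snd b = hπP.rep.snd b := (yon S).map_injective (by
    rw [Functor.map_comp, hμ₁, IsPullback.lift_snd])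
  let AA := pullback (hπ₀.rep.snd b) (hπ.rep.snd b)
  let μ : A ⟶ AA := pullback.lift μ₀ μ₁ (hμ₀s.trans hμ₁s.symm)
  haveI : IsClosedImmersion μ.left := by
    let v : (yon S).obj AA ⟶ pullback π₀ π := pullback.lift
      ((yon S).map (pullback.fst (hπ₀.rep.snd b) (hπ.rep.snd b)) ≫ hπ₀.rep.fst b)
      ((yon S).map (pullback.snd (hπ₀.rep.snd b) (hπ.rep.snd b)) ≫ hπ.rep.fst b)
      (by rw [Category.assoc, Category.assoc, sq₀.w, sq₁.w, ← Functor.map_comp_assoc, ← Functor.map_comp_assoc,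
        pullback.condition])
    have sqW := hj.1.rep.isPullback v
    have hv : hπP.rep.fst b ≫ j = (yon S).map μ ≫ v := by
      apply pullback.hom_ext
      · rw [Category.assoc, Category.assoc, pullback.lift_fst, ← Functor.map_comp_assoc, pullback.lift_fst, hμ₀f]
      · rw [Category.assoc, Category.assoc, pullback.lift_snd, ← Functor.map_comp_assoc, pullback.lift_snd, hμ₁f]
    obtain ⟨e, he⟩ := (yon S).map_surjective (sqW.lift _ _ hv)
    have he₁ : (yon S).map e ≫ hj.1.rep.fst v = hπP.rep.fst b := by rw [he, IsPullback.lift_fst]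
    have he₂ : e ≫ hj.1.rep.snd v = μ := (yon S).map_injective (by rw [Functor.map_comp, he, IsPullback.lift_snd])
    obtain ⟨e', he'⟩ := (yon S).map_surjective (sqP.lift (hj.1.rep.fst v)
      ((yon S).map (hj.1.rep.snd v ≫ pullback.fst (hπ₀.rep.snd b) (hπ.rep.snd b) ≫ hπ₀.rep.snd b)) (by
        simp only [πP, r₀, Category.assoc]
        rw [reassoc_of% (hj.1.rep.w v), pullback.lift_fst_assoc, Category.assoc, sq₀.w]
        simp only [Functor.map_comp, Category.assoc]))
    have he'₁ : (yon S).map e' ≫ hπP.rep.fst b = hj.1.rep.fst v := by rw [he', IsPullback.lift_fst]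
    have he'₂ : e' ≫ hπP.rep.snd b =
        hj.1.rep.snd v ≫ pullback.fst (hπ₀.rep.snd b) (hπ.rep.snd b) ≫ hπ₀.rep.snd b :=
      (yon S).map_injective (by rw [Functor.map_comp, he', IsPullback.lift_snd])
    have hμe : e' ≫ μ = hj.1.rep.snd v := by
      apply pullback.hom_ext
      · rw [Category.assoc, pullback.lift_fst]
        refine (yon S).map_injective (sq₀.hom_ext ?_ ?_)
        · rw [Functor.map_comp, Category.assoc, hμ₀f, reassoc_of% he'₁, ← Category.assoc,
            hj.1.rep.w v, Category.assoc, pullback.lift_fst, Functor.map_comp, Category.assoc]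
        · rw [← Functor.map_comp, ← Functor.map_comp, Category.assoc, hμ₀s, he'₂, Category.assoc]
      · rw [Category.assoc, pullback.lift_snd]
        refine (yon S).map_injective (sq₁.hom_ext ?_ ?_)
        · rw [Functor.map_comp, Category.assoc, hμ₁f, reassoc_of% he'₁, ← Category.assoc,
            hj.1.rep.w v, Category.assoc, pullback.lift_snd, Functor.map_comp, Category.assoc]
        · rw [← Functor.map_comp, ← Functor.map_comp, Category.assoc, hμ₁s, he'₂, Category.assoc,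
            pullback.condition]
    haveI : IsClosedImmersion (hj.1.rep.snd v).left := hj.1.property_snd v
    haveI : Mono (hj.1.rep.snd v).left := inferInstance
    have h1 : e.left ≫ e'.left = 𝟙 _ := by
      rw [← Over.comp_left]
      have : e ≫ e' = 𝟙 A := (yon S).map_injective (sqP.hom_ext
        (by rw [Functor.map_comp, Category.assoc, he'₁, he₁, CategoryTheory.Functor.map_id, Category.id_comp])
        (by rw [← Functor.map_comp, Category.assoc, he'₂, reassoc_of% he₂, pullback.lift_fst_assoc, hμ₀s,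
          CategoryTheory.Functor.map_id, Category.id_comp]))
      rw [this]
      rfl
    have h2 : e'.left ≫ e.left = 𝟙 _ := by
      rw [← cancel_mono (hj.1.rep.snd v).left, Category.assoc, ← Over.comp_left, he₂, ← Over.comp_left, hμe,
        Category.id_comp]
    haveI : IsIso e.left := ⟨⟨e'.left, h1, h2⟩⟩
    rw [← he₂, Over.comp_left]
    infer_instance
  obtain ⟨hqP, hkP⟩ := ker_chart_map_eq_bot hX hY P.property hb hbs hc hcs hk hπP hgPπ hd
    (chartMap_fst hk hπP hgPπ) (exists_chart_map hk hπP hgPπ).choose_spec.2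
  obtain ⟨hq₀, hk₀⟩ := ker_chart_map_eq_bot hX hY hZ₀ hb hbs hc hcs hk hπ₀ hg₀ hd₀
    (chartMap_fst hk hπ₀ hg₀) (exists_chart_map hk hπ₀ hg₀).choose_spec.2
  have em₀ : chartMap hk hπP hgPπ ≫ μ₀ = chartMap hk hπ₀ hg₀ := (yon S).map_injective (sq₀.hom_ext
    (by rw [Functor.map_comp, Category.assoc, hμ₀f, reassoc_of% (chartMap_fst hk hπP hgPπ), chartMap_fst, hr₀])
    (by rw [← Functor.map_comp, ← Functor.map_comp, Category.assoc, hμ₀s,
      chartMap_snd', chartMap_snd']))
  have em₁ : chartMap hk hπP hgPπ ≫ μ₁ = chartMap hk hπ hg := (yon S).map_injective (sq₁.hom_ext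
    (by rw [Functor.map_comp, Category.assoc, hμ₁f, reassoc_of% (chartMap_fst hk hπP hgPπ), chartMap_fst, hr])
    (by rw [← Functor.map_comp, ← Functor.map_comp, Category.assoc, hμ₁s,
      chartMap_snd', chartMap_snd']))
  haveI : IsIso μ₀.left := by
    refine isIso_of_secRange_le hk₀ hkP (chartMap_snd hk hπ₀ hg₀) (chartMap_snd hk hπP hgPπ) μ₀.left
      (by rw [← Over.comp_left, em₀]) (by rw [← Over.comp_left, hμ₀s]) fun O hO => ?_
    have H := (IsPullback.of_hasPullback (hπ₀.rep.snd b) (hπ.rep.snd b)).map (Over.forget S)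
    haveI : IsAffineHom ((Over.forget S).map (hπ₀.rep.snd b)) := inferInstanceAs (IsAffineHom (hπ₀.rep.snd b).left)
    haveI : IsAffineHom ((Over.forget S).map (hπ.rep.snd b)) := inferInstanceAs (IsAffineHom (hπ.rep.snd b).left)
    refine (secRange_le_sup H μ.left (a' := (hπP.rep.snd b).left) ?_ (chartMap_snd hk hπ₀ hg₀)
      (chartMap_snd hk hπ hg) (chartMap_snd hk hπP hgPπ) ?_ ?_ hO).trans (sup_le le_rfl ?_)
    · show μ.left ≫ (pullback.fst (hπ₀.rep.snd b) (hπ.rep.snd b)).left ≫ (hπ₀.rep.snd b).left = _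
      rw [← Over.comp_left, ← Over.comp_left, pullback.lift_fst_assoc, hμ₀s]
    · show _ ≫ μ.left ≫ (pullback.fst (hπ₀.rep.snd b) (hπ.rep.snd b)).left = _
      rw [← Over.comp_left, ← Over.comp_left, pullback.lift_fst, em₀]
    · show _ ≫ μ.left ≫ (pullback.snd (hπ₀.rep.snd b) (hπ.rep.snd b)).left = _
      rw [← Over.comp_left, ← Over.comp_left, pullback.lift_snd, em₁]
    · exact (congrFun hkey ⟨O, hO⟩).ge
  haveI : IsIso ((Over.forget S).map μ₀) := ‹IsIso μ₀.left›
  haveI : IsIso μ₀ := isIso_of_reflects_iso μ₀ (Over.forget S)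
  have hcart : IsPullback (hπP.rep.fst b) ((yon S).map μ₀) r₀ (hπ₀.rep.fst b) := by
    refine IsPullback.of_bot ?_ hμ₀f.symm sq₀
    rw [← Functor.map_comp, hμ₀s]
    exact sqP
  have hcov := isFpqcCover_of_isEtaleMor (IsAlgSpace.yon_obj A₀) hZ₀
    (isEtaleMor_of_repWith (repWith_of_isPullback sq₀.flip hb))
    (surjective_map_of_repWith (repWith_of_isPullback sq₀.flip hbs))
  have : IsIso r₀ := isIso_of_fpqc P.property hZ₀ (fun _ => IsAlgSpace.yon_obj _) (fun _ => IsAlgSpace.yon_obj _)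
    hcov (fun _ => hcart) fun _ => inferInstance
  refine ⟨inv r₀ ≫ r, ?_, ?_⟩
  · rw [← hr₀, Category.assoc, IsIso.hom_inv_id_assoc, hr]
  · rw [Category.assoc, hrπ, IsIso.inv_hom_id_assoc]

end Groth.Agent.AlgSpDec.RelNorm
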