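import Groth.Agent.AlgSpDec.RelNorm.Transition
import Groth.Agent.AlgSpDec.LqfQuot
import Groth.Agent.AlgSpDec.QuotOpenMap
import Groth.Agent.AlgSpDec.AffineLocal
import Groth.Agent.AlgSpDec.QuotRep
import Groth.Agent.EtFound.Descent

/-!
# Descent of the normalization along an atlas
-/

set_option autoImplicit false
set_option backward.isDefEq.respectTransparency false
set_option backward.isDefEq.respectTransparency.types false

universe u

open CategoryTheory CategoryTheory.Limits AlgebraicGeometry AlgSp Groth.Agent.AlgSpLib Groth.Agent.AlgSpPts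

namespace Groth.Agent.AlgSpDec.RelNorm

variable {S : Scheme.{u}} {X Y : Sp S} {f : Y ⟶ X}

/-- The normalization exists with the expected restriction to every etale map from a scheme to a given atlas. -/
theorem exists_descended (hX : IsAlgSpace X) (hY : IsAlgSpace Y) (hqc : IsQuasiCompactMor f)
    (hqs : IsQuasiSeparatedMor f) {ι : Type u} (O : ι → Over S) [∀ i, IsAffine (O i).left]
    (b : ∀ i, (yon S).obj (O i) ⟶ X) (hb : ∀ i, RepWith @Etale (b i))
    (hs : ∀ p, ∃ i v, Points.ofPt (b i) v = p) :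
    ∃ (G : Sp S) (νG : G ⟶ X) (gG : Y ⟶ G) (h : IsRelNormalization f νG gG), ∀ i, BC h.1 (b i) := by
  obtain ⟨bσ, hbe, hbs, hbσ⟩ := exists_atlas_of_family hX b hb hs
  obtain ⟨N, ν, g, hfac, hνi, hBC⟩ := exists_sigma_normalization hX hY hqc hqs O bσ
  let U := sigmaOver O
  have hU : IsAlgSpace ((yon S).obj U) := IsAlgSpace.yon_obj U
  haveI := hνi
  -- the relation on the atlas
  let R := hbe.rep.pullback bσ
  let t : R ⟶ U := hbe.rep.fst' bσ
  let s : R ⟶ U := hbe.rep.snd bσ
  have sqR : IsPullback ((yon S).map t) ((yon S).map s) bσ bσ := hbe.rep.isPullback' bσ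
  haveI hte : Etale t.left := hbe.property _ _ _ sqR.flip
  haveI hse : Etale s.left := hbe.property _ _ _ sqR
  have hts : (yon S).map t ≫ bσ = (yon S).map s ≫ bσ := sqR.w
  obtain ⟨ψ, hψ⟩ := exists_isTrans hU hνi (hBC R t hte) hts
  obtain ⟨ψ', hψ'⟩ := exists_isTrans hU hνi (hBC R s hse) hts.symm
  let Rn := pullback ν t
  let src : Rn ⟶ N := pullback.fst ν t
  have sRn := (IsPullback.of_hasPullback ν t).map (yon S)
  let eN := sRn.isoPullback
  obtain ⟨tgt, htgt⟩ := (yon S).map_surjective (eN.hom ≫ ψ)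
  haveI hsrc : Etale src.left := MorphismProperty.of_isPullback (P := @Etale)
    ((IsPullback.of_hasPullback ν t).map (Over.forget S)).flip hte
  haveI htgte : Etale tgt.left := by
    refine (repWith_yon_map_iff @Etale _).1 ?_
    let Φ := pullback.lift ψ (pullback.snd _ _) hψ.1
    let Φ' := pullback.lift ψ' (pullback.snd _ _) hψ'.1
    have i1 : Φ ≫ ψ' = pullback.fst _ _ := (hψ.comp hψ').unique hνi (hBC R t hte) (isTrans_fst t)
    have i2 : Φ' ≫ ψ = pullback.fst _ _ := (hψ'.comp hψ).unique hνi (hBC R s hse) (isTrans_fst s)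
    haveI : IsIso Φ := ⟨Φ', by
      constructor <;> refine pullback.hom_ext ?_ ?_
      · rw [Category.assoc, pullback.lift_fst, i1, Category.id_comp]
      · rw [Category.assoc, pullback.lift_snd, pullback.lift_snd, Category.id_comp]
      · rw [Category.assoc, pullback.lift_fst, i2, Category.id_comp]
      · rw [Category.assoc, pullback.lift_snd, pullback.lift_snd, Category.id_comp]⟩
    rw [htgt, show ψ = Φ ≫ pullback.fst _ _ from (pullback.lift_fst _ _ _).symm]
    exact repWith_comp (repWith_of_isIso _ _) (repWith_comp (repWith_of_isIso _ _)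
      (repWith_fst _ ((repWith_yon_map_iff @Etale _).2 hse)))
  -- points of the relation
  have key : ∀ {T : Over S} (x y : T ⟶ N), (∃ r : T ⟶ Rn, r ≫ src = x ∧ r ≫ tgt = y) ↔
      ∃ r : (yon S).obj T ⟶ pullback ((yon S).map ν) ((yon S).map t),
        r ≫ pullback.fst _ _ = (yon S).map x ∧ r ≫ ψ = (yon S).map y := by
    intro T x y
    constructor
    · rintro ⟨r, rfl, rfl⟩
      exact ⟨(yon S).map r ≫ eN.hom, by rw [Category.assoc, sRn.isoPullback_hom_fst, ← Functor.map_comp],
        by rw [Functor.map_comp, htgt, Category.assoc]⟩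
    · rintro ⟨r, h1, h2⟩
      refine ⟨(yon S).preimage (r ≫ eN.inv), (yon S).map_injective ?_, (yon S).map_injective ?_⟩
      · rw [Functor.map_comp, Functor.map_preimage, Category.assoc]
        exact (congrArg (r ≫ ·) sRn.isoPullback_inv_fst).trans h1
      · rw [Functor.map_comp, Functor.map_preimage, htgt, Category.assoc, Iso.inv_hom_id_assoc, h2]
  obtain ⟨Δ, hΔt, hΔs⟩ : ∃ Δ : U ⟶ R, Δ ≫ t = 𝟙 U ∧ Δ ≫ s = 𝟙 U := by
    obtain ⟨Δ, hΔ⟩ := (yon S).map_surjective (sqR.lift (𝟙 _) (𝟙 _) rfl)
    exact ⟨Δ, (yon S).map_injective (by rw [Functor.map_comp, hΔ, IsPullback.lift_fst, CategoryTheory.Functor.map_id]),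
      (yon S).map_injective (by rw [Functor.map_comp, hΔ, IsPullback.lift_snd, CategoryTheory.Functor.map_id])⟩
  obtain ⟨sw, hswt, hsws⟩ : ∃ sw : R ⟶ R, sw ≫ t = s ∧ sw ≫ s = t := by
    obtain ⟨sw, hsw⟩ := (yon S).map_surjective (sqR.lift _ _ hts.symm)
    exact ⟨sw, (yon S).map_injective (by rw [Functor.map_comp, hsw, IsPullback.lift_fst]),
      (yon S).map_injective (by rw [Functor.map_comp, hsw, IsPullback.lift_snd])⟩
  let j : (yon S).obj N ⟶ pullback ((yon S).map ν) ((yon S).map (𝟙 U)) :=
    pullback.lift (𝟙 _) ((yon S).map ν) (by rw [CategoryTheory.Functor.map_id, Category.comp_id, Category.id_comp])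
  have hrefl := (hψ.restrict Δ hΔt hΔs rfl).unique hνi (hBC U (𝟙 U) (by rw [Over.id_left]; infer_instance))
    (isTrans_fst (𝟙 U))
  let d : (yon S).obj N ⟶ pullback ((yon S).map ν) ((yon S).map t) :=
    pullback.lift (𝟙 _) ((yon S).map ν ≫ (yon S).map Δ)
      (by rw [Category.assoc, ← Functor.map_comp, hΔt, CategoryTheory.Functor.map_id, Category.comp_id, Category.id_comp])
  have hd : d ≫ ψ = 𝟙 _ := by
    rw [← pullback.lift_fst (f := (yon S).map ν) (g := (yon S).map (𝟙 U)) (𝟙 _) ((yon S).map ν)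
      (by rw [CategoryTheory.Functor.map_id, Category.comp_id, Category.id_comp]), ← hrefl, ← Category.assoc]
    congr 1
    refine pullback.hom_ext ?_ ?_
    · rw [Category.assoc, pullback.lift_fst, pullback.lift_fst, pullback.lift_fst]
    · rw [Category.assoc, pullback.lift_snd, pullback.lift_snd, pullback.lift_snd_assoc]
  let R₂ := pullback s t
  let π₁ : R₂ ⟶ R := pullback.fst s t
  let π₂ : R₂ ⟶ R := pullback.snd s t
  haveI hπ₁ : Etale π₁.left := MorphismProperty.of_isPullback (P := @Etale)
    ((IsPullback.of_hasPullback s t).map (Over.forget S)).flip hte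
  haveI hπ₂ : Etale π₂.left := MorphismProperty.of_isPullback (P := @Etale)
    ((IsPullback.of_hasPullback s t).map (Over.forget S)) hse
  have hπ : π₁ ≫ s = π₂ ≫ t := pullback.condition
  have hR₂ : (yon S).map (π₁ ≫ t) ≫ bσ = (yon S).map (π₂ ≫ s) ≫ bσ := by
    rw [Functor.map_comp, Category.assoc, hts, ← Functor.map_comp_assoc, hπ, Functor.map_comp, Category.assoc, hts,
      ← Functor.map_comp_assoc]
  obtain ⟨μ, hμt, hμs⟩ : ∃ μ : R₂ ⟶ R, μ ≫ t = π₁ ≫ t ∧ μ ≫ s = π₂ ≫ s := by
    obtain ⟨μ, hμ⟩ := (yon S).map_surjective (sqR.lift _ _ hR₂)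
    exact ⟨μ, (yon S).map_injective (by rw [Functor.map_comp, hμ, IsPullback.lift_fst]),
      (yon S).map_injective (by rw [Functor.map_comp, hμ, IsPullback.lift_snd])⟩
  have sq₂ := (IsPullback.of_hasPullback s t).map (yon S)
  have hrel : IsEqvRel tgt src := by
    refine ⟨fun T r r' h1 h2 => (yon S).map_injective ?_, fun T => ⟨fun x => ?_, fun {x y} h => ?_, fun {x y z} h h' => ?_⟩⟩
    · rw [← cancel_mono eN.hom]
      have e1 : ((yon S).map r ≫ eN.hom) ≫ pullback.fst _ _ = ((yon S).map r' ≫ eN.hom) ≫ pullback.fst _ _ := by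
        rw [Category.assoc, Category.assoc, sRn.isoPullback_hom_fst, ← Functor.map_comp, ← Functor.map_comp, h1]
      refine pullback.hom_ext e1 (sqR.hom_ext ?_ ?_)
      · rw [Category.assoc, Category.assoc ((yon S).map r' ≫ _), ← pullback.condition, ← Category.assoc, e1, Category.assoc]
      · have e2 : ((yon S).map r ≫ eN.hom) ≫ ψ = ((yon S).map r' ≫ eN.hom) ≫ ψ := by
          rw [Category.assoc, Category.assoc, ← htgt, ← Functor.map_comp, ← Functor.map_comp, h2]
        rw [Category.assoc, Category.assoc ((yon S).map r' ≫ _), ← hψ.1, ← Category.assoc, e2, Category.assoc]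
    · refine (key x x).2 ⟨(yon S).map x ≫ d, ?_, ?_⟩
      · rw [Category.assoc, pullback.lift_fst, Category.comp_id]
      · rw [Category.assoc, hd, Category.comp_id]
    · obtain ⟨r, hr1, hr2⟩ := (key x y).1 h
      refine (key y x).2 ⟨r ≫ pullback.lift ψ (pullback.snd _ _ ≫ (yon S).map sw) (by
        rw [hψ.1, Category.assoc, ← Functor.map_comp, hswt]), by rw [Category.assoc, pullback.lift_fst, hr2], ?_⟩
      have := (hψ.comp (hψ.restrict sw hswt hsws hts.symm)).unique hνi (hBC R t hte) (isTrans_fst t)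
      refine Eq.trans (Category.assoc _ _ _) ?_
      rw [← hr1, ← this]
      refine congrArg (r ≫ ·) (Eq.trans ?_ (Category.assoc _ _ _))
      refine congrArg (· ≫ ψ) ?_
      refine pullback.hom_ext ?_ ?_
      · simp only [Category.assoc, pullback.lift_fst]
      · simp only [Category.assoc, pullback.lift_snd, pullback.lift_snd_assoc]
    · obtain ⟨r, hr1, hr2⟩ := (key x y).1 h
      obtain ⟨r', hr1', hr2'⟩ := (key y z).1 h'
      let l := sq₂.lift (r ≫ pullback.snd _ _) (r' ≫ pullback.snd _ _) (by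
        rw [Category.assoc, Category.assoc, ← hψ.1, ← pullback.condition, reassoc_of% hr2, reassoc_of% hr1'])
      let p : (yon S).obj T ⟶ pullback ((yon S).map ν) ((yon S).map (π₁ ≫ t)) :=
        pullback.lift ((yon S).map x) l (by
          rw [(yon S).map_comp π₁ t, sq₂.lift_fst_assoc, Category.assoc, ← pullback.condition, reassoc_of% hr1])
      have k₁ := hψ.restrict π₁ (d₁ := π₁ ≫ t) (d₂ := π₁ ≫ s) rfl rfl (by
        rw [Functor.map_comp, Functor.map_comp, Category.assoc, Category.assoc, hts])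
      have k₂ := hψ.restrict π₂ (d₁ := π₁ ≫ s) (d₂ := π₂ ≫ s) hπ.symm rfl (by
        rw [hπ, Functor.map_comp, Functor.map_comp, Category.assoc, Category.assoc, hts])
      have k₀ := hψ.restrict μ (d₁ := π₁ ≫ t) (d₂ := π₂ ≫ s) hμt hμs hR₂
      have := (k₁.comp k₂).unique hνi (hBC R₂ (π₁ ≫ t) (by rw [Over.comp_left]; infer_instance)) k₀
      refine (key x z).2 ⟨p ≫ pullback.lift (pullback.fst _ _)
        (pullback.snd ((yon S).map ν) ((yon S).map (π₁ ≫ t)) ≫ (yon S).map μ)
        (by rw [pullback.condition, Category.assoc, ← Functor.map_comp, hμt]), ?_, ?_⟩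
      · rw [Category.assoc, pullback.lift_fst, pullback.lift_fst]
      · rw [Category.assoc, ← this]
        have z₁ : p ≫ pullback.lift (pullback.fst _ _)
            (pullback.snd ((yon S).map ν) ((yon S).map (π₁ ≫ t)) ≫ (yon S).map π₁)
            (by rw [pullback.condition, Category.assoc, ← Functor.map_comp]) = r := by
          refine pullback.hom_ext ?_ ?_
          · rw [Category.assoc, pullback.lift_fst, pullback.lift_fst, hr1]
          · rw [Category.assoc, pullback.lift_snd, pullback.lift_snd_assoc, sq₂.lift_fst]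
        rw [← hr2', ← Category.assoc, ← Category.assoc]
        congr 1
        refine pullback.hom_ext ?_ ?_
        · rw [Category.assoc, pullback.lift_fst, Category.assoc, pullback.lift_fst, reassoc_of% z₁, hr2, hr1']
        · rw [Category.assoc, pullback.lift_snd, Category.assoc, pullback.lift_snd_assoc, pullback.lift_snd_assoc,
            sq₂.lift_snd]
  -- the quotient
  have hGA : IsAlgSpace (QuotSh.quot Scheme.fppfPrecoverage tgt src) := isAlgSpace_quot hrel
  obtain ⟨gm, sqG, _⟩ : ∃ gm : (yon S).obj N ⟶ QuotSh.quot Scheme.fppfPrecoverage tgt src,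
      IsPullback ((yon S).map src) ((yon S).map tgt) gm gm ∧ Sheaf.IsLocallySurjective gm :=
    ⟨quotMap tgt src, isPullback_quotMap hrel, isLocallySurjective_quotMap tgt src⟩
  have hνb : (yon S).map src ≫ (yon S).map ν ≫ bσ = (yon S).map tgt ≫ (yon S).map ν ≫ bσ := by
    rw [htgt, Category.assoc, reassoc_of% hψ.1, ← hts, ← pullback.condition_assoc]
    exact (sRn.isoPullback_hom_fst_assoc _).symm
  obtain ⟨νG, hνG⟩ := exists_desc_of_kernelPair sqG ((yon S).map ν ≫ bσ) hνb
  have sqP := IsPullback.of_hasPullback f bσ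
  have : Epi (pullback.fst f bσ) := by
    obtain ⟨V, a, ha, has⟩ := hY.atlas
    have hfe := repWith_fst f hbe
    have hfs := repWith_fst f hbs
    refine ⟨fun {Z} k k' h => ?_⟩
    have : Epi a := epi_of_etale_surjective ha has
    rw [← cancel_epi a]
    have hq : Epi ((yon S).map (hfe.rep.snd a)) := epi_of_etale_surjective
      ((repWith_yon_map_iff @Etale _).2 (hfe.property_snd a))
      ((repWith_yon_map_iff @Surjective _).2 (hfs.property _ _ _ (hfe.rep.isPullback a)))
    rw [← cancel_epi ((yon S).map (hfe.rep.snd a)), ← reassoc_of% (hfe.rep.w a), ← reassoc_of% (hfe.rep.w a), h]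
  have : EffectiveEpi (pullback.fst f bσ) := by
    have := IsRegularEpiCategory.regularEpiOfEpi (pullback.fst f bσ)
    infer_instance
  have hag : ∀ {K : Sp S} (b₁ b₂ : K ⟶ pullback f bσ), b₁ ≫ pullback.fst f bσ = b₂ ≫ pullback.fst f bσ →
      b₁ ≫ g ≫ gm = b₂ ≫ g ≫ gm := fun {K} b₁ b₂ h => by
    let r := sqR.lift (b₁ ≫ pullback.snd f bσ) (b₂ ≫ pullback.snd f bσ) (by
      rw [Category.assoc, Category.assoc, ← pullback.condition, reassoc_of% h])
    let q : K ⟶ pullback (pullback.snd f bσ) ((yon S).map t) := pullback.lift b₁ r (by rw [sqR.lift_fst])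
    have hq1 : q ≫ bcMap hfac ((yon S).map t) ≫ pullback.fst _ _ = b₁ ≫ g := by
      rw [bcMap_fst, pullback.lift_fst_assoc]
    have hq2 : q ≫ bcMap hfac ((yon S).map t) ≫ ψ = b₂ ≫ g := by
      rw [hψ.2, ← Category.assoc]
      congr 1
      refine pullback.hom_ext ?_ ?_
      · rw [Category.assoc, pullback.lift_fst, pullback.lift_fst_assoc, h]
      · rw [Category.assoc, pullback.lift_snd, pullback.lift_snd_assoc, sqR.lift_snd]
    rw [← reassoc_of% hq1, ← reassoc_of% hq2]
    congr 2
    rw [← cancel_epi eN.hom, ← Category.assoc, sRn.isoPullback_hom_fst, ← Category.assoc eN.hom, ← htgt]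
    exact sqG.w
  let gG := EffectiveEpi.desc (pullback.fst f bσ) (g ≫ gm) fun b₁ b₂ h => hag b₁ b₂ h
  have hgG : pullback.fst f bσ ≫ gG = g ≫ gm := EffectiveEpi.fac _ _ _
  have hfG : gG ≫ νG = f := by
    rw [← cancel_epi (pullback.fst f bσ), reassoc_of% hgG, hνG, reassoc_of% hfac, ← pullback.condition]
  -- the quotient map is cartesian
  let n := pullback.lift gm ((yon S).map ν) hνG
  have : Mono n := mono_of_yon_injective fun T p p' hpp => by
    obtain ⟨p, rfl⟩ := (yon S).map_surjective p
    obtain ⟨p', rfl⟩ := (yon S).map_surjective p'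
    have e1 := hpp =≫ pullback.fst νG bσ
    have e2 := hpp =≫ pullback.snd νG bσ
    simp only [n, Category.assoc, pullback.lift_fst, pullback.lift_snd] at e1 e2
    obtain ⟨r, hr1, hr2⟩ := (key p p').1 (exists_rel_lift sqG p p' e1)
    have hr : r = (yon S).map p ≫ d := by
      refine pullback.hom_ext (by rw [hr1, Category.assoc, pullback.lift_fst, Category.comp_id]) (sqR.hom_ext ?_ ?_)
      · simp only [d, Category.assoc, pullback.lift_snd, ← Functor.map_comp, hΔt, Category.comp_id]
        rw [← pullback.condition, reassoc_of% hr1, ← Functor.map_comp]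
        simp only [Functor.map_comp]
        exact congrArg ((yon S).map p ≫ ·) (((congrArg ((yon S).map ν ≫ ·) ((yon S).map_id U)).trans (Category.comp_id _)).symm)
      · simp only [d, Category.assoc, pullback.lift_snd, ← Functor.map_comp, hΔs, Category.comp_id]
        rw [← hψ.1, reassoc_of% hr2, ← e2, Functor.map_comp]
        simp only [Functor.map_comp]
        exact congrArg ((yon S).map p ≫ ·) (((congrArg ((yon S).map ν ≫ ·) ((yon S).map_id U)).trans (Category.comp_id _)).symm)
    rw [← hr2, hr, Category.assoc, hd, Category.comp_id]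
  have : Sheaf.IsLocallySurjective n := isLocallySurjective_of_lifts n fun T ξ => by
    obtain ⟨T', c, x, hc, hx⟩ := exists_fppf_lift_of_locallySurjective gm (ξ ≫ pullback.fst νG bσ)
    let r := sqR.lift (x ≫ (yon S).map ν) ((yon S).map c ≫ ξ ≫ pullback.snd νG bσ) (by
      rw [Category.assoc, ← hνG, reassoc_of% hx, Category.assoc, Category.assoc, pullback.condition])
    let q := pullback.lift (f := (yon S).map ν) (g := (yon S).map t) x r (by rw [sqR.lift_fst])
    refine ⟨T', c, q ≫ ψ, hc, pullback.hom_ext ?_ ?_⟩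
    · rw [Category.assoc, Category.assoc, pullback.lift_fst, Category.assoc, ← hx]
      have : ψ ≫ gm = pullback.fst _ _ ≫ gm := by
        rw [← cancel_epi eN.hom, ← Category.assoc, ← Category.assoc, ← htgt, sRn.isoPullback_hom_fst]
        exact sqG.w.symm
      rw [this, pullback.lift_fst_assoc]
    · rw [Category.assoc, Category.assoc, pullback.lift_snd, hψ.1, pullback.lift_snd_assoc, sqR.lift_snd,
        Category.assoc]
  have : IsIso n := isIso_of_mono_of_locallySurjective n
  have sqN : IsPullback gm ((yon S).map ν) νG bσ :=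
    IsPullback.of_iso_pullback ⟨hνG⟩ (asIso n) (pullback.lift_fst _ _ _) (pullback.lift_snd _ _ _)
  have := EtFound.fpqc_isIntegralHom.{u}
  have hνGi : RepWith @IsIntegralHom νG := repWith_of_etale_cover
    (fun _ _ e (_ : IsIntegralHom e) => inferInstanceAs (IsAffineHom e)) hbe hbs sqN
    ((repWith_yon_map_iff @IsIntegralHom ν).2 hνi)
  have hBCG : ∀ (V : Over S) (e : V ⟶ U), Etale e.left → BC hfG ((yon S).map e ≫ bσ) := by
    intro V e he
    have h := hBC V e he
    refine BC.mk_of_squares hfG ((IsPullback.of_hasPullback (pullback.snd f bσ) ((yon S).map e)).paste_horiz sqP)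
      ((IsPullback.of_hasPullback ((yon S).map ν) ((yon S).map e)).paste_horiz sqN) ?_ h
    rw [reassoc_of% bcMap_fst hfac ((yon S).map e), Category.assoc, hgG]
  have hBCi : ∀ i, BC hfG (b i) := fun i => by
    rw [← hbσ i]
    exact hBCG _ _ inferInstance
  refine ⟨_, νG, gG, isRelNormalization_of_family hX hY hνGi hfG b hb hs hBCi fun i j => ?_, hBCi⟩
  obtain ⟨fst, hfst⟩ := (yon S).map_surjective ((hb i).rep.fst (b j))
  have hfe : Etale fst.left := (repWith_yon_map_iff @Etale _).1 (by
    rw [hfst]; exact repWith_of_isPullback ((hb i).rep.isPullback _).flip (hb j))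
  rw [← hfst, show (yon S).map fst ≫ b i = (yon S).map (fst ≫ sigmaι O i) ≫ bσ by
    rw [Functor.map_comp, Category.assoc]; exact congrArg (_ ≫ ·) (hbσ i).symm]
  exact (hBCG _ _ (by rw [Over.comp_left]; infer_instance)).uniqAt

end Groth.Agent.AlgSpDec.RelNorm
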