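import Groth.Agent.AlgSpDec.RelNorm.Sections
import Groth.Agent.AlgSpDec.SchImageChart
import Groth.Agent.AlgSpDec.AffineRep
import Groth.Agent.AlgSpLib.Descent2
import Groth.Prelude.Def_AlgSpMor5

/-!
# Schematically dominant factorizations through integral morphisms
-/

set_option autoImplicit false
set_option backward.isDefEq.respectTransparency false
set_option backward.isDefEq.respectTransparency.types false

universe u

open CategoryTheory CategoryTheory.Limits AlgebraicGeometry AlgSp Groth.Agent.AlgSpLib Groth.Agent.AlgSpPts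

namespace Groth.Agent.AlgSpDec.RelNorm

variable {S : Scheme.{u}} {X Y Z W : Sp S}

theorem repWith_integral_of_closedImmersion {f : X ⟶ Y} (h : RepWith @IsClosedImmersion f) :
    RepWith @IsIntegralHom f :=
  repWith_mono (fun _ _ e (_ : IsClosedImmersion e) => inferInstanceAs (IsIntegralHom e)) _ h

theorem repWith_diagonal_of_integral {f : X ⟶ Y} (h : RepWith @IsIntegralHom f) :
    RepWith @IsClosedImmersion (pullback.diagonal f) :=
  repWith_diagonal h fun g (_ : IsIntegralHom g) => inferInstanceAs (IsClosedImmersion (pullback.diagonal g))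

theorem repWith_integral_of_comp {h : Z ⟶ W} {π : W ⟶ X} (hhπ : RepWith @IsIntegralHom (h ≫ π))
    (hπ : RepWith @IsIntegralHom π) : RepWith @IsIntegralHom h :=
  of_comp_of_diagonal (RepWith @IsIntegralHom) h π hhπ
    (repWith_integral_of_closedImmersion (repWith_diagonal_of_integral hπ))

/-- Two maps out of a schematically dominant target which agree on the source are equal. -/
theorem hom_ext_of_dominant (hX : IsAlgSpace X) (hZ : IsAlgSpace Z) (hW : IsAlgSpace W) {g : Y ⟶ Z}
    (hd : IsSchImage g (𝟙 Z)) {π : W ⟶ X} (hπ : RepWith @IsIntegralHom π) {h h' : Z ⟶ W}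
    (hp : h ≫ π = h' ≫ π) (hg : g ≫ h = g ≫ h') : h = h' := by
  let D := pullback.diagonal π
  let L : Z ⟶ pullback π π := pullback.lift h h' hp
  have hE : IsAlgSpace (pullback D L) :=
    isAlgSpace_pullback hW hZ (isAlgSpace_pullback hW hW hX π π) D L
  have hcl : RepWith @IsClosedImmersion (pullback.snd D L) := repWith_snd L (repWith_diagonal_of_integral hπ)
  have hfac : (g ≫ h) ≫ D = g ≫ L := by
    apply pullback.hom_ext
    · simp [D, L]
    · simp [D, L, hg]
  obtain ⟨s, hs⟩ := hd.2.2 (pullback.snd D L) hE hcl ⟨pullback.lift _ g hfac, pullback.lift_snd _ _ _⟩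
  have e : (s ≫ pullback.fst D L) ≫ D = L := by rw [Category.assoc, pullback.condition, reassoc_of% hs]
  have e₁ := e =≫ pullback.fst π π
  have e₂ := e =≫ pullback.snd π π
  simp only [D, L, Category.assoc, pullback.diagonal_fst, pullback.diagonal_snd, pullback.lift_fst,
    pullback.lift_snd, Category.comp_id] at e₁ e₂
  exact e₁.symm.trans e₂

/-- A map factors through its schematic image as a schematically dominant map. -/
theorem dominant_of_isSchImage (hW : IsAlgSpace Z) {g : Y ⟶ W} {j : Z ⟶ W} (hj : IsSchImage g j) {g' : Y ⟶ Z}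
    (hg' : g' ≫ j = g) : IsSchImage g' (𝟙 Z) := by
  refine ⟨repWith_of_isIso _ _, ⟨g', Category.comp_id _⟩, fun Z' i' hZ' hi' hf => ?_⟩
  obtain ⟨f'', hf''⟩ := hf
  obtain ⟨s, hs⟩ := hj.2.2 (i' ≫ j) hZ' (repWith_comp hi' hj.1) ⟨f'', by rw [← Category.assoc, hf'', hg']⟩
  have := mono_of_closedImmersion hj.1
  exact ⟨s, by rw [← cancel_mono j, Category.assoc, hs, Category.id_comp]⟩

variable {f : Y ⟶ X} {U T : Over S} {b : (yon S).obj U ⟶ X} {c : (yon S).obj T ⟶ pullback f b} {k : T ⟶ U}
variable {π : Z ⟶ X} {g : Y ⟶ Z}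

/-- On the chart, a factorization gives a map from the chart of the source. -/
theorem exists_chart_map (hk : c ≫ pullback.snd f b = (yon S).map k) (hπ : RepWith @IsIntegralHom π)
    (hg : g ≫ π = f) :
    ∃ m : T ⟶ hπ.rep.pullback b, (yon S).map m ≫ hπ.rep.fst b = c ≫ pullback.fst f b ≫ g ∧
      m ≫ hπ.rep.snd b = k := by
  obtain ⟨m, hm⟩ := (yon S).map_surjective ((hπ.rep.isPullback b).lift (c ≫ pullback.fst f b ≫ g) ((yon S).map k)
    (by rw [Category.assoc, Category.assoc, hg, pullback.condition, ← Category.assoc, hk]))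
  refine ⟨m, by rw [hm, IsPullback.lift_fst], (yon S).map_injective ?_⟩
  rw [Functor.map_comp, hm, IsPullback.lift_snd]

theorem ker_chart_map_eq_bot (hX : IsAlgSpace X) (hY : IsAlgSpace Y) (hZ : IsAlgSpace Z) (hb : RepWith @Etale b)
    (hbs : RepWith @Surjective b) (hc : RepWith @Etale c) (hcs : RepWith @Surjective c)
    (hk : c ≫ pullback.snd f b = (yon S).map k) [QuasiCompact k.left] (hπ : RepWith @IsIntegralHom π)
    (hg : g ≫ π = f) (hd : IsSchImage g (𝟙 Z)) {m : T ⟶ hπ.rep.pullback b}
    (hm : (yon S).map m ≫ hπ.rep.fst b = c ≫ pullback.fst f b ≫ g) (hma : m ≫ hπ.rep.snd b = k) :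
    QuasiCompact m.left ∧ m.left.ker = ⊥ := by
  have sqA := hπ.rep.isPullback b
  haveI : IsIntegralHom (hπ.rep.snd b).left := hπ.property_snd b
  haveI hq : QuasiCompact m.left := by
    haveI : QuasiCompact (m.left ≫ (hπ.rep.snd b).left) := by rw [← Over.comp_left, hma]; infer_instance
    exact QuasiCompact.of_comp m.left (hπ.rep.snd b).left
  refine ⟨hq, ?_⟩
  let n : pullback f b ⟶ (yon S).obj (hπ.rep.pullback b) :=
    sqA.lift (pullback.fst f b ≫ g) (pullback.snd f b) (by rw [Category.assoc, hg, pullback.condition])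
  have hn : IsPullback (pullback.fst f b) n g (hπ.rep.fst b) := by
    refine IsPullback.of_bot ?_ (sqA.lift_fst _ _ _).symm sqA
    rw [sqA.lift_snd, hg]
    exact IsPullback.of_hasPullback f b
  let e := hn.isoPullback
  have hb' : RepWith @Etale (hπ.rep.fst b) := repWith_of_isPullback sqA.flip hb
  have hbs' : RepWith @Surjective (hπ.rep.fst b) := repWith_of_isPullback sqA.flip hbs
  have hk' : (c ≫ e.hom) ≫ pullback.snd g (hπ.rep.fst b) = (yon S).map m := by
    rw [Category.assoc, hn.isoPullback_hom_snd]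
    refine sqA.hom_ext ?_ ?_
    · rw [Category.assoc, sqA.lift_fst, hm]
    · rw [Category.assoc, sqA.lift_snd, ← Functor.map_comp, hma, hk]
  have := schImage_chart hY hZ hb' hbs' (repWith_comp hc (repWith_of_isIso @Etale e.hom))
    (repWith_comp hcs (repWith_of_isIso @Surjective e.hom)) hk' (k := m) hd
  rw [← this]
  haveI : IsIso (hd.1.rep.snd (hπ.rep.fst b)).left := by
    have sq := hd.1.rep.isPullback (hπ.rep.fst b)
    haveI : IsIso ((yon S).map (hd.1.rep.snd (hπ.rep.fst b))) := sq.isIso_snd_of_isIso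
    haveI : IsIso (hd.1.rep.snd (hπ.rep.fst b)) := isIso_of_fully_faithful (yon S) _
    exact inferInstanceAs (IsIso ((Over.forget S).map (hd.1.rep.snd (hπ.rep.fst b))))
  exact ker_eq_bot_of_flat_surjective _

end Groth.Agent.AlgSpDec.RelNorm
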