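import Groth.Agent.AlgSpDec.RelNorm.AffineCase

/-!
# From etale-affine stability to etale stability
-/

set_option autoImplicit false
set_option backward.isDefEq.respectTransparency false
set_option backward.isDefEq.respectTransparency.types false

universe u

open CategoryTheory CategoryTheory.Limits AlgebraicGeometry AlgSp Groth.Agent.AlgSpLib Groth.Agent.AlgSpPts

namespace Groth.Agent.AlgSpDec.RelNorm

variable {S : Scheme.{u}} {X Y X' : Sp S} {f : Y ⟶ X} {ν : X' ⟶ X} {f' : Y ⟶ X'}

/-- The square between two base changes. -/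
theorem isPullback_bc {V W : Sp S} (g : X' ⟶ X) (b : V ⟶ X) (c : W ⟶ V) :
    IsPullback (pullback.lift (pullback.fst g (c ≫ b)) (pullback.snd g (c ≫ b) ≫ c)
        (by rw [Category.assoc]; exact pullback.condition) : pullback g (c ≫ b) ⟶ pullback g b)
      (pullback.snd g (c ≫ b)) (pullback.snd g b) c := by
  refine IsPullback.of_right ?_ (pullback.lift_snd _ _ _) (IsPullback.of_hasPullback g b)
  rw [pullback.lift_fst]
  exact IsPullback.of_hasPullback g (c ≫ b)

theorem bcMap_lift (hfac : f' ≫ ν = f) {V W : Sp S} (b : V ⟶ X) (c : W ⟶ V) :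
    bcMap hfac (c ≫ b) ≫ pullback.lift (f := ν) (g := b) (pullback.fst ν (c ≫ b)) (pullback.snd ν (c ≫ b) ≫ c)
        (by rw [Category.assoc]; exact pullback.condition) =
      pullback.lift (f := f) (g := b) (pullback.fst f (c ≫ b)) (pullback.snd f (c ≫ b) ≫ c)
        (by rw [Category.assoc]; exact pullback.condition) ≫ bcMap hfac b := by
  refine pullback.hom_ext ?_ ?_
  · rw [Category.assoc, pullback.lift_fst, bcMap_fst, Category.assoc, bcMap_fst, pullback.lift_fst_assoc]
  · rw [Category.assoc, pullback.lift_snd, ← Category.assoc, bcMap_snd, Category.assoc, bcMap_snd,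
      pullback.lift_snd]

/-- A base change of a base change. -/
theorem BC.restrict {hfac : f' ≫ ν = f} {V W : Sp S} {b : V ⟶ X} {c : W ⟶ V} (h : BC hfac (c ≫ b)) :
    BC (bcMap_snd hfac b) c :=
  BC.mk_of_squares _ (isPullback_bc f b c) (isPullback_bc ν b c) (bcMap_lift hfac b c) h

/-- A base change of a base change. -/
theorem BC.compose {hfac : f' ≫ ν = f} {V W : Sp S} {b : V ⟶ X} {c : W ⟶ V} (h : BC (bcMap_snd hfac b) c) :
    BC hfac (c ≫ b) :=
  BC.mk_of_squares hfac (IsPullback.of_hasPullback f (c ≫ b)) (IsPullback.of_hasPullback ν (c ≫ b))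
    (bcMap_fst hfac _) (h.of_squares (isPullback_bc f b c) (isPullback_bc ν b c) (bcMap_snd hfac _)
      (bcMap_lift hfac b c))

/-- Stability under affine etale maps inside the members of an open cover gives stability under all etale maps. -/
theorem bc_of_cover (hX : IsAlgSpace X) (hY : IsAlgSpace Y) (hν : RepWith @IsIntegralHom ν) (hfac : f' ≫ ν = f)
    {U : Over S} (b : (yon S).obj U ⟶ X) {ι : Type u} {O : ι → Over S} (o : ∀ i, O i ⟶ U)
    [∀ i, IsOpenImmersion (o i).left] (ho : ∀ u, ∃ i v, (o i).left v = u)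
    (h : ∀ i (W : Over S), IsAffine W.left → ∀ e : W ⟶ O i, Etale e.left → BC hfac ((yon S).map (e ≫ o i) ≫ b))
    {V : Over S} (e : V ⟶ U) (he : Etale e.left) : BC hfac ((yon S).map e ≫ b) := by
  have hsmall : ∀ {V : Over S} (e : V ⟶ U), Etale e.left → UniqAt hfac ((yon S).map e ≫ b) ∧
      ∃ (κ : Type u) (W : κ → Over S) (w : ∀ k, W k ⟶ V), (∀ k, IsOpenImmersion (w k).left) ∧
        (∀ v, ∃ k x, (w k).left x = v) ∧ ∀ k, BC hfac ((yon S).map (w k ≫ e) ≫ b) := by
    intro V e he
    let κ := Σ i, {Q : V.left.Opens // IsAffineOpen Q ∧ Q ≤ e.left ⁻¹ᵁ (o i).left.opensRange}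
    let W : κ → Over S := fun k => Over.mk (k.2.1.ι ≫ V.hom)
    let w : ∀ k, W k ⟶ V := fun k => Over.homMk k.2.1.ι rfl
    have hw : ∀ k, IsOpenImmersion (w k).left := fun k => inferInstanceAs (IsOpenImmersion k.2.1.ι)
    have hws : ∀ v, ∃ k x, (w k).left x = v := fun v => by
      obtain ⟨i, u, hu⟩ := ho (e.left v)
      obtain ⟨Q, hQ, hvQ, hQle⟩ := exists_isAffineOpen_mem_and_subset
        (U := e.left ⁻¹ᵁ (o i).left.opensRange) (x := v) ⟨u, hu⟩
      exact ⟨⟨i, Q, hQ, hQle⟩, ⟨v, hvQ⟩, rfl⟩
    have hBC : ∀ k, BC hfac ((yon S).map (w k ≫ e) ≫ b) := fun k => by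
      have hr : Set.range (w k ≫ e).left ⊆ Set.range (o k.1).left := by
        rintro _ ⟨x, rfl⟩
        exact k.2.2.2 x.2
      let l : W k ⟶ O k.1 := Over.homMk (IsOpenImmersion.lift (o k.1).left (w k ≫ e).left hr) (by
        rw [← Over.w (o k.1), IsOpenImmersion.lift_fac_assoc, Over.w (w k ≫ e)])
      have hl : l ≫ o k.1 = w k ≫ e := Over.OverMorphism.ext (IsOpenImmersion.lift_fac _ _ _)
      haveI : Etale e.left := he
      haveI : IsOpenImmersion (w k).left := hw k
      have : Etale (l.left ≫ (o k.1).left) := by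
        rw [← Over.comp_left, hl, Over.comp_left]; infer_instance
      have hle : Etale l.left := MorphismProperty.of_postcomp (W := @Etale) (W' := @Etale) l.left (o k.1).left
        inferInstance this
      rw [← hl]
      exact h k.1 (W k) k.2.2.1 l hle
    refine ⟨uniqAt_of_family hX hν hfac (IsAlgSpace.yon_obj V) ((yon S).map e ≫ b)
      (fun k => (yon S).map (w k)) (fun k => (repWith_yon_map_iff @Etale _).2 (by
        haveI := hw k; infer_instance)) (fun p => ?_) fun k => ?_, κ, W, w, hw, hws, hBC⟩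
    · obtain ⟨v, rfl⟩ := (Points.schemeEquiv V).surjective p
      obtain ⟨k, x, hx⟩ := hws v
      refine ⟨k, x, ?_⟩
      rw [← Category.comp_id ((yon S).map (w k)), ofPt_comp, hx]
      rfl
    · rw [← Functor.map_comp_assoc]
      exact (hBC k).uniqAt
  obtain ⟨-, κ, W, w, hw, hws, hBC⟩ := hsmall e he
  let b' := (yon S).map e ≫ b
  have hX'V : RepWith @IsIntegralHom (pullback.snd ν b') := repWith_snd b' hν
  have hYV : IsAlgSpace (pullback f b') := isAlgSpace_pullback hY (IsAlgSpace.yon_obj V) hX f b'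
  have hwe : ∀ k, RepWith @Etale ((yon S).map (w k)) := fun k => (repWith_yon_map_iff @Etale _).2 (by
    haveI := hw k; infer_instance)
  refine isRelNormalization_of_family (IsAlgSpace.yon_obj V) hYV hX'V (bcMap_snd hfac b') (fun k => (yon S).map (w k))
    hwe (fun p => ?_) (fun k => BC.restrict (by rw [← Functor.map_comp_assoc]; exact hBC k)) fun k l => ?_
  · obtain ⟨v, rfl⟩ := (Points.schemeEquiv V).surjective p
    obtain ⟨k, x, hx⟩ := hws v
    refine ⟨k, x, ?_⟩
    rw [← Category.comp_id ((yon S).map (w k)), ofPt_comp, hx]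
    rfl
  · obtain ⟨fst, hfst⟩ := (yon S).map_surjective ((hwe k).rep.fst ((yon S).map (w l)))
    have hfe : Etale fst.left := (repWith_yon_map_iff @Etale _).1 (by
      rw [hfst]; exact repWith_of_isPullback ((hwe k).rep.isPullback _).flip (hwe l))
    rw [← hfst, ← Functor.map_comp]
    have he' : Etale (fst ≫ w k ≫ e).left := by
      haveI := hw k
      rw [Over.comp_left, Over.comp_left]; infer_instance
    obtain ⟨-, κ', W', w', hw', hws', hBC'⟩ := hsmall (fst ≫ w k ≫ e) he'
    refine uniqAt_of_family (IsAlgSpace.yon_obj V) hX'V (bcMap_snd hfac b') (IsAlgSpace.yon_obj _) _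
      (fun m => (yon S).map (w' m)) (fun m => (repWith_yon_map_iff @Etale _).2 (by
        haveI := hw' m; infer_instance)) (fun p => ?_) fun m => ?_
    · obtain ⟨v, rfl⟩ := (Points.schemeEquiv _).surjective p
      obtain ⟨m, x, hx⟩ := hws' v
      refine ⟨m, x, ?_⟩
      rw [← Category.comp_id ((yon S).map (w' m)), ofPt_comp, hx]
      rfl
    · refine (BC.restrict ?_).uniqAt
      have := hBC' m
      simpa only [b', Functor.map_comp, Category.assoc] using this

end Groth.Agent.AlgSpDec.RelNorm
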