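import Groth.Agent.AlgSpDec.RelNorm.Compare
import Groth.Agent.AlgSpDec.LimAffine
import Mathlib.AlgebraicGeometry.Morphisms.Integral

/-!
# Existence of relative normalizations of algebraic spaces

For a quasi-compact morphism the schematically dominant factorizations through integral morphisms form, up to
isomorphism, a cofiltered partially ordered set; the schematic image of the source in its limit is initial.
-/

set_option autoImplicit false
set_option backward.isDefEq.respectTransparency false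
set_option backward.isDefEq.respectTransparency.types false

universe u

open CategoryTheory CategoryTheory.Limits AlgebraicGeometry AlgSp Groth.Agent.AlgSpLib Groth.Agent.AlgSpPts

namespace Groth.Agent.AlgSpDec.RelNorm

variable {S : Scheme.{u}}

attribute [local instance] IsCofiltered.isConnected

theorem repWith_integral_limit_proj {I : Type u} [SmallCategory I] [IsCofiltered I] (D : I ⥤ Sp S)
    (hD : ∀ (i j : I) (φ : i ⟶ j), RepWith @IsIntegralHom (D.map φ)) (c : Cone D) (hc : IsLimit c) (i : I) :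
    RepWith @IsIntegralHom (c.π.app i) := by
  refine isIntegralMor_iff_repWith.1 fun Z hZ g => ?_
  have : IsAffine Z.left := hZ
  obtain ⟨W, cW, hcW, p, fst, a, b, sq, -, hA, hWA, hj, -, hp⟩ := exists_limit_square' D
    (fun i j φ => isAffineMor_of_repWith (fun _ _ e (_ : IsIntegralHom e) => inferInstanceAs (IsAffineHom e))
      (hD i j φ)) c hc i g
  have : IsAffine ((Over.forget S).obj Z) := hZ
  refine ⟨cW.pt, p, fst, sq, hA, ?_⟩
  rw [HasAffineProperty.iff_of_isAffine (P := @IsIntegralHom)]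
  refine ⟨hA, fun s => ?_⟩
  have : ∀ j, IsAffine ((W ⋙ Over.forget S).obj j) := hWA
  obtain ⟨j, t, ht⟩ := exists_appTop_π_eq_of_isAffine_of_isLimit (W ⋙ Over.forget S) _
    (isLimitOfPreserves (Over.forget S) hcW) s
  have hb : (b j).left.appTop.hom.IsIntegral :=
    ((HasAffineProperty.iff_of_isAffine (P := @IsIntegralHom)).1 ((hD _ _ _).property _ _ _ (hj j))).2
  obtain ⟨q, hq, hqt⟩ := hb t
  refine ⟨q, hq, ?_⟩
  have e : p.left.appTop.hom = (cW.π.app j).left.appTop.hom.comp (b j).left.appTop.hom := by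
    rw [hp j, Over.comp_left, Scheme.Hom.comp_appTop, CommRingCat.hom_comp]
  rw [e, ← ht]
  exact (Polynomial.hom_eval₂ q _ (cW.π.app j).left.appTop.hom t).symm.trans (by rw [hqt, map_zero])

variable {X Y : Sp S}

/-- A schematically dominant factorization through an integral morphism. -/
structure Fac (f : Y ⟶ X) where
  Z : Space S
  π : Z.obj ⟶ X
  g : Y ⟶ Z.obj
  hπ : RepWith @IsIntegralHom π
  fac : g ≫ π = f
  dom : IsSchImage g (𝟙 Z.obj)

theorem exists_fac_over (hY : IsAlgSpace Y) {f : Y ⟶ X} {Z : Sp S} (hZ : IsAlgSpace Z)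
    {π : Z ⟶ X} (hπ : RepWith @IsIntegralHom π) {g : Y ⟶ Z} (hg : g ≫ π = f) :
    ∃ (F : Fac f) (j : F.Z.obj ⟶ Z), F.g ≫ j = g ∧ j ≫ π = F.π := by
  obtain ⟨P, j, hj⟩ := exists_schImage hY hZ g
  obtain ⟨g', hg'⟩ := hj.2.1
  exact ⟨⟨P, j ≫ π, g', repWith_comp (repWith_integral_of_closedImmersion hj.1) hπ,
    by rw [← Category.assoc, hg', hg], dominant_of_isSchImage P.property hj hg'⟩, j, hg', rfl⟩

variable {f : Y ⟶ X}

/-- A map of factorizations. -/
def Fac.Le (F G : Fac f) : Prop := ∃ h : F.Z.obj ⟶ G.Z.obj, F.g ≫ h = G.g ∧ h ≫ G.π = F.π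

/-- The small index set of subrings coming from factorizations. -/
structure Index {U T : Over S} {b : (yon S).obj U ⟶ X} {c : (yon S).obj T ⟶ pullback f b} {k : T ⟶ U}
    (hk : c ≫ pullback.snd f b = (yon S).map k) : Type u where
  val : ∀ O : U.left.affineOpens, Subring Γ(T.left, k.left ⁻¹ᵁ O.1)
  prop : ∃ F : Fac f, key hk F.hπ F.fac = val

theorem exists_relNormalization (hX : IsAlgSpace X) (hY : IsAlgSpace Y) (hq : IsQuasiCompactMor f) :
    ∃ (X' : Space S) (ν : X'.obj ⟶ X) (f' : Y ⟶ X'.obj), IsRelNormalization f ν f' := by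
  obtain ⟨U, T, b, c, k, hb, hbs, hc, hcs, hk, hkq⟩ := exists_qc_chart hY hX hq
  let I := Index (f := f) hk
  let rep : I → Fac f := fun K => K.2.choose
  have hrep : ∀ F : Fac f, (rep ⟨_, F, rfl⟩).Le F := fun F => by
    let K : I := ⟨_, F, rfl⟩
    exact exists_hom_of_key_eq hX hY hb hbs hc hcs hk (rep K).Z.property F.Z.property (rep K).hπ (rep K).fac
      (rep K).dom F.hπ F.fac K.2.choose_spec
  have htrans : ∀ {A B C : Fac f}, A.Le B → B.Le C → A.Le C := by
    rintro A B C ⟨h, h1, h2⟩ ⟨h', h1', h2'⟩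
    exact ⟨h ≫ h', by rw [reassoc_of% h1, h1'], by rw [Category.assoc, h2', h2]⟩
  letI : Preorder I :=
    { le := fun a b => (rep a).Le (rep b)
      le_refl := fun a => ⟨𝟙 _, Category.comp_id _, Category.id_comp _⟩
      le_trans := fun a b c h h' => htrans h h' }
  have : IsCodirectedOrder I := ⟨fun x y => by
    obtain ⟨F, j, hj, hjπ⟩ := exists_fac_over hY
      (isAlgSpace_pullback (rep x).Z.property (rep y).Z.property hX (rep x).π (rep y).π)
      (repWith_comp (repWith_fst (rep x).π (rep y).hπ) (rep x).hπ)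
      (f := f) (g := pullback.lift (rep x).g (rep y).g ((rep x).fac.trans (rep y).fac.symm))
      (by rw [pullback.lift_fst_assoc, (rep x).fac])
    refine ⟨⟨_, F, rfl⟩, htrans (hrep F) ?_, htrans (hrep F) ?_⟩
    · exact ⟨j ≫ pullback.fst _ _, by rw [reassoc_of% hj, pullback.lift_fst], by rw [Category.assoc, hjπ]⟩
    · exact ⟨j ≫ pullback.snd _ _, by rw [reassoc_of% hj, pullback.lift_snd],
        by rw [Category.assoc, ← pullback.condition, hjπ]⟩⟩
  have : Nonempty I := by
    obtain ⟨F, -⟩ := exists_fac_over hY hX (repWith_of_isIso @IsIntegralHom (𝟙 X)) (Category.comp_id f)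
    exact ⟨⟨_, F, rfl⟩⟩
  let h : ∀ {x y : I}, x ≤ y → ((rep x).Z.obj ⟶ (rep y).Z.obj) := fun {x y} p => p.choose
  have hg : ∀ {x y : I} (p : x ≤ y), (rep x).g ≫ h p = (rep y).g := fun p => p.choose_spec.1
  have hπ : ∀ {x y : I} (p : x ≤ y), h p ≫ (rep y).π = (rep x).π := fun p => p.choose_spec.2
  have huniq : ∀ {x y : I} {u v : (rep x).Z.obj ⟶ (rep y).Z.obj}, (rep x).g ≫ u = (rep y).g →
      (rep x).g ≫ v = (rep y).g → u ≫ (rep y).π = (rep x).π → v ≫ (rep y).π = (rep x).π → u = v :=
    fun {x y u v} h1 h2 h3 h4 => hom_ext_of_dominant hX (rep x).Z.property (rep y).Z.property (rep x).dom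
      (rep y).hπ (h3.trans h4.symm) (h1.trans h2.symm)
  let D : I ⥤ Sp S :=
    { obj := fun x => (rep x).Z.obj
      map := fun p => h (leOfHom p)
      map_id := fun x => huniq (hg _) (Category.comp_id _) (hπ _) (Category.id_comp _)
      map_comp := fun p q => huniq (hg _) (by rw [reassoc_of% (hg (leOfHom p)), hg]) (hπ _)
        (by rw [Category.assoc, hπ, hπ]) }
  have hDint : ∀ (x y : I) (p : x ⟶ y), RepWith @IsIntegralHom (D.map p) := fun x y p =>
    repWith_integral_of_comp (π := (rep y).π) (by rw [show D.map p ≫ (rep y).π = (rep x).π from hπ _]; exact (rep x).hπ)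
      (rep y).hπ
  let cL := limit.cone D
  have hcL := limit.isLimit D
  have hL : IsAlgSpace cL.pt := isAlgSpace_limit D (fun x => (rep x).Z.property) (fun x y p =>
    isAffineMor_of_repWith (fun _ _ e (_ : IsIntegralHom e) => inferInstanceAs (IsAffineHom e)) (hDint x y p))
    cL hcL
  obtain ⟨i₀⟩ := ‹Nonempty I›
  let νL : cL.pt ⟶ X := cL.π.app i₀ ≫ (rep i₀).π
  have hνL : ∀ x, cL.π.app x ≫ (rep x).π = νL := fun x => by
    obtain ⟨z, hzx, hz0⟩ := directed_of (· ≥ ·) x i₀
    have e : ∀ {y : I} (p : z ≤ y), cL.π.app y ≫ (rep y).π = cL.π.app z ≫ (rep z).π := fun {y} p => by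
      rw [← cL.w (homOfLE p), Category.assoc]
      exact congrArg (cL.π.app z ≫ ·) (hπ p)
    exact (e hzx).trans (e hz0).symm
  let fL : Y ⟶ cL.pt := hcL.lift
    { pt := Y
      π := { app := fun x => (rep x).g
             naturality := fun x y p => by
               dsimp
               rw [Category.id_comp]
               exact (hg _).symm } }
  have hfL : ∀ x, fL ≫ cL.π.app x = (rep x).g := fun x => hcL.fac _ x
  obtain ⟨F, j, hj, hjν⟩ := exists_fac_over hY hL (f := f)
    (repWith_comp (repWith_integral_limit_proj D hDint cL hcL i₀) (rep i₀).hπ) (g := fL)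
    (by rw [← Category.assoc, hfL, (rep i₀).fac])
  refine ⟨F.Z, F.π, F.g, F.fac, isIntegralMor_iff_repWith.2 F.hπ, fun Z hZ π g hπi hgπ => ?_⟩
  have hπZ := isIntegralMor_iff_repWith.1 hπi
  obtain ⟨G, i, hi, hiπ⟩ := exists_fac_over hY hZ hπZ hgπ
  obtain ⟨t, ht, htπ⟩ := hrep G
  let K : I := ⟨_, G, rfl⟩
  refine ⟨j ≫ cL.π.app K ≫ t ≫ i, ⟨?_, ?_⟩, fun h' h'' => ?_⟩
  · rw [reassoc_of% hj, reassoc_of% (hfL K), reassoc_of% ht, hi]
  · rw [Category.assoc, Category.assoc, Category.assoc, hiπ, htπ, hνL]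
    exact hjν
  · refine hom_ext_of_dominant hX F.Z.property hZ F.dom hπZ ?_ ?_
    · rw [h''.2, Category.assoc, Category.assoc, Category.assoc, hiπ, htπ, hνL]
      exact hjν.symm
    · rw [h''.1, reassoc_of% hj, reassoc_of% (hfL K), reassoc_of% ht, hi]

end Groth.Agent.AlgSpDec.RelNorm
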