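import Groth.Agent.AlgSpDec.RelNorm.GenPoint
import Groth.Agent.AlgSpDec.NagataLocal
import Groth.Agent.AlgSpDec.LimReduced
import Groth.Agent.AlgSpDec.AffineLocal
import Groth.Agent.EtFound.Descent
import Groth.Agent.S0573

/-!
# Finiteness of the relative normalization over a Nagata base
-/

set_option autoImplicit false
set_option backward.isDefEq.respectTransparency false
set_option backward.isDefEq.respectTransparency.types false

universe u

open CategoryTheory CategoryTheory.Limits AlgebraicGeometry AlgSp Groth.Agent.AlgSpLib Groth.Agent.AlgSpPts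

namespace Groth.Agent.AlgSpDec.RelNorm

/-- An integral extension of a Nagata scheme with a schematically dominant map from a reduced scheme of finite
type is finite. -/
theorem isFinite_of_nagata {U A T : Scheme.{u}} (a : A ⟶ U) [IsIntegralHom a] (k : T ⟶ U) [QuasiCompact k]
    [LocallyOfFiniteType k] [IsReduced T] (m : T ⟶ A) [QuasiCompact m] (hm : m.ker = ⊥) (hk : m ≫ a = k)
    (hU : ∀ V : U.Opens, IsAffineOpen V → CAlg.IsNagata ↑Γ(U, V)) : IsFinite a := by
  subst hk
  constructor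
  intro O hO
  have hV : IsAffineOpen (a ⁻¹ᵁ O) := hO.preimage a
  have hint : (a.app O).hom.IsIntegral := IsIntegralHom.isIntegral_app a O hO
  obtain ⟨s, hs, hcov⟩ := isCompact_and_isOpen_iff_finite_and_eq_biUnion_affineOpens.1
    ⟨(m ≫ a).isCompact_preimage hO.isCompact, ((m ≫ a) ⁻¹ᵁ O).isOpen⟩
  haveI : Fintype ↥s := hs.fintype
  have hle : ∀ W : ↥s, W.1.1 ≤ (m ≫ a) ⁻¹ᵁ O := fun W x hx => by
    have : x ∈ ⋃ i ∈ s, (i.1 : Set ↥T) := Set.mem_biUnion W.2 hx
    rwa [← hcov] at this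
  have hle' : ∀ W : ↥s, W.1.1 ≤ m ⁻¹ᵁ (a ⁻¹ᵁ O) := fun W => by
    rw [← Scheme.Hom.comp_preimage]; exact hle W
  let α : Γ(U, O) ⟶ Γ(A, a ⁻¹ᵁ O) := a.app O
  letI : Algebra Γ(U, O) Γ(A, a ⁻¹ᵁ O) := α.hom.toAlgebra
  letI : ∀ W : ↥s, Algebra Γ(U, O) Γ(T, W.1.1) := fun W => ((m ≫ a).appLE O W.1.1 (hle W)).hom.toAlgebra
  haveI : ∀ W : ↥s, Algebra.FiniteType Γ(U, O) Γ(T, W.1.1) := fun W =>
    HasRingHomProperty.appLE @LocallyOfFiniteType (m ≫ a) inferInstance ⟨O, hO⟩ W.1 (hle W)
  haveI : ∀ W : ↥s, _root_.IsReduced Γ(T, W.1.1) := fun W => inferInstance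
  haveI : IsNoetherianRing Γ(U, O) := (hU O hO).1
  haveI : ∀ W : ↥s, Module.Finite Γ(U, O) (integralClosure Γ(U, O) Γ(T, W.1.1)) := fun W =>
    Groth.Agent.S0573.result _ (hU O hO) _
  have hcomm : ∀ (W : ↥s) (r : Γ(U, O)), m.appLE (a ⁻¹ᵁ O) W.1.1 (hle' W) (α r) = (m ≫ a).appLE O W.1.1 (hle W) r :=
    fun W r => by
      rw [← ConcreteCategory.comp_apply]
      congr 2
  let φ : ∀ W : ↥s, Γ(A, a ⁻¹ᵁ O) →ₐ[Γ(U, O)] Γ(T, W.1.1) := fun W =>
    { (m.appLE (a ⁻¹ᵁ O) W.1.1 (hle' W)).hom with commutes' := hcomm W }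
  haveI : Algebra.IsIntegral Γ(U, O) Γ(A, a ⁻¹ᵁ O) := ⟨hint⟩
  let ψ : Γ(A, a ⁻¹ᵁ O) →ₗ[Γ(U, O)] ∀ W : ↥s, integralClosure Γ(U, O) Γ(T, W.1.1) :=
    LinearMap.pi fun W => ((φ W).codRestrict (integralClosure Γ(U, O) Γ(T, W.1.1))
      fun x => (Algebra.IsIntegral.isIntegral x).map (φ W)).toLinearMap
  have hψ : Function.Injective ψ := by
    intro x y hxy
    have hinj : Function.Injective (m.app (a ⁻¹ᵁ O)).hom := (RingHom.injective_iff_ker_eq_bot _).2 (by
      have := congr($(hm).ideal ⟨_, hV⟩)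
      rwa [Scheme.Hom.ker_apply, Scheme.IdealSheafData.ideal_bot, Pi.bot_apply] at this)
    refine hinj (T.IsSheaf.section_ext fun z hz => ?_)
    have hz' : z ∈ ⋃ i ∈ s, (i.1 : Set ↥T) := hcov ▸ (show z ∈ ((m ≫ a) ⁻¹ᵁ O : T.Opens) from hz)
    obtain ⟨W, hW, hzW⟩ := Set.mem_iUnion₂.1 hz'
    refine ⟨W.1, hle' ⟨W, hW⟩, hzW, ?_⟩
    have e := congrArg Subtype.val (congrFun hxy ⟨W, hW⟩)
    exact e
  exact Module.Finite.of_injective ψ hψ

variable {S : Scheme.{u}} {X Y X' : Sp S} {f : Y ⟶ X} {ν : X' ⟶ X} {f' : Y ⟶ X'}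

theorem isFiniteMor_of_nagata (hX : IsAlgSpace X) (hY : IsAlgSpace Y) (hX' : IsAlgSpace X')
    (hN : EtaleLocally (fun U => ∀ V : U.Opens, IsAffineOpen V → CAlg.IsNagata ↑Γ(U, V)) X)
    (hqc : IsQuasiCompactMor f) (hft : LocP @LocallyOfFiniteType f)
    (hred : IsReducedSp Y) (h : IsRelNormalization f ν f') : IsFiniteMor ν := by
  obtain ⟨U, T, b, c, k, hb, hbs, hc, hcs, hk, hkq⟩ := exists_qc_chart hY hX hqc
  obtain ⟨U₀, a₀, ha₀, has₀, hN₀⟩ := hN
  have hν := isIntegralMor_iff_repWith.1 h.2.1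
  obtain ⟨m, hm₁, hm₂⟩ := exists_chart_map hk hν h.1
  obtain ⟨hmq, hker⟩ := ker_chart_map_eq_bot hX hY hX' hb hbs hc hcs hk hν h.1
    (dominant_of_isRelNormalization hY hX' h) hm₁ hm₂
  let sndA := hν.rep.snd b
  haveI : IsIntegralHom sndA.left := hν.property_snd b
  -- the common refinement
  let U' := hb.rep.pullback a₀
  let e : U' ⟶ U := hb.rep.fst' a₀
  let e₀ : U' ⟶ U₀ := hb.rep.snd a₀
  have sqU := hb.rep.isPullback' a₀
  haveI : Etale e₀.left := hb.property_snd a₀
  haveI : Etale e.left := ha₀.property _ _ _ sqU.flip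
  haveI : Surjective e.left := has₀.property _ _ _ sqU.flip
  let A' := pullback sndA e
  let T' := pullback k e
  let k' : T' ⟶ U' := pullback.snd k e
  haveI : QuasiCompact k'.left :=
    MorphismProperty.of_isPullback (P := @QuasiCompact) ((IsPullback.of_hasPullback k e).map (Over.forget S)) hkq
  haveI : LocallyOfFiniteType k.left := by
    have hP : IsAlgSpace (pullback f b) := isAlgSpace_pullback hY (IsAlgSpace.yon_obj U) hX f b
    exact (locP_of_isPullback (IsPullback.of_hasPullback f b) hY hX (IsAlgSpace.yon_obj U) hft) c (𝟙 _) k hc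
      (repWith_id _ U) (by rw [hk, Category.comp_id])
  haveI : LocallyOfFiniteType k'.left :=
    MorphismProperty.of_isPullback (P := @LocallyOfFiniteType) ((IsPullback.of_hasPullback k e).map (Over.forget S))
      ‹LocallyOfFiniteType k.left›
  haveI : Etale (pullback.fst k e).left :=
    MorphismProperty.of_isPullback (P := @Etale) ((IsPullback.of_hasPullback k e).map (Over.forget S)).flip ‹_›
  haveI : IsReduced T'.left := isReduced_of_etale_reducedSp hred
    (b := (yon S).map (pullback.fst k e) ≫ c ≫ pullback.fst f b)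
    (repWith_comp ((repWith_yon_map_iff @Etale _).2 inferInstance) (repWith_comp hc (repWith_fst f hb)))
  let m' : T' ⟶ A' := pullback.lift (pullback.fst k e ≫ m) k'
    (by rw [Category.assoc, hm₂]; exact pullback.condition)
  have sqm : IsPullback (pullback.fst k e) m' m (pullback.fst sndA e) := by
    refine IsPullback.of_bot ?_ (pullback.lift_fst _ _ _).symm (IsPullback.of_hasPullback sndA e)
    rw [pullback.lift_snd, hm₂]
    exact IsPullback.of_hasPullback k e
  haveI : Etale (pullback.fst sndA e).left :=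
    MorphismProperty.of_isPullback (P := @Etale) ((IsPullback.of_hasPullback sndA e).map (Over.forget S)).flip ‹_›
  haveI : QuasiCompact m'.left :=
    MorphismProperty.of_isPullback (P := @QuasiCompact) (sqm.map (Over.forget S)) hmq
  have hker' : m'.left.ker = ⊥ := by
    have h4 := Groth.Agent.S4667.result m.left (pullback.fst sndA e).left
    rw [hker, Scheme.IdealSheafData.comap_bot] at h4
    rw [← h4]
    have sq := sqm.map (Over.forget S)
    rw [← Scheme.Hom.ker_comp_of_isIso sq.isoPullback.hom]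
    congr 1
    exact sq.isoPullback_hom_snd.symm
  haveI : IsIntegralHom (pullback.snd sndA e).left :=
    MorphismProperty.of_isPullback (P := @IsIntegralHom) ((IsPullback.of_hasPullback sndA e).map (Over.forget S))
      ‹IsIntegralHom sndA.left›
  have hfin : IsFinite (pullback.snd sndA e).left := by
    refine isFinite_of_nagata _ k'.left m'.left hker' (by rw [← Over.comp_left, pullback.lift_snd]) fun V hV => ?_
    exact NagataLocal.isNagata_affineOpen e₀.left (fun Q : U₀.left.affineOpens => Q.1)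
      (iSup_affineOpens_eq_top _) (fun Q => Q.2) (fun Q => hN₀ Q.1 Q.2) V hV
  have := EtFound.fpqc_isFinite.{u}
  refine isFiniteMor_iff_repWith.2 (repWith_of_etale_cover
    (fun _ _ x (_ : IsFinite x) => inferInstanceAs (IsAffineHom x))
    (repWith_comp ((repWith_yon_map_iff @Etale e).2 inferInstance) hb)
    (repWith_comp ((repWith_yon_map_iff @Surjective e).2 inferInstance) hbs)
    (((IsPullback.of_hasPullback sndA e).map (yon S)).paste_horiz (hν.rep.isPullback b))
    ((repWith_yon_map_iff @IsFinite _).2 hfin))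

end Groth.Agent.AlgSpDec.RelNorm
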