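import Groth.Agent.AlgSpDec.RelNorm.Dominant
import Groth.Agent.AlgSpDec.CodimZero
import Groth.Agent.AlgSpPts.Dim
import Groth.Agent.ProConsLib.Image

/-!
# Generic points of a relative normalization come from the source
-/

set_option autoImplicit false
set_option backward.isDefEq.respectTransparency false
set_option backward.isDefEq.respectTransparency.types false

universe u

open CategoryTheory CategoryTheory.Limits AlgebraicGeometry AlgSp Order Groth.Agent.AlgSpLib Groth.Agent.AlgSpPts

namespace Groth.Agent.AlgSpDec.RelNorm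

theorem exists_codimZero_specializes {T : Scheme.{u}} (t : ↥T) : ∃ η : T, η ⤳ t ∧ coheight η = 0 := by
  obtain ⟨Z, hZ, htZ⟩ := exists_mem_irreducibleComponents_subset_of_isIrreducible {t} isIrreducible_singleton
  have hc : closure Z = Z := (isClosed_of_mem_irreducibleComponents Z hZ).closure_eq
  refine ⟨hZ.1.genericPoint, hZ.1.isGenericPoint_genericPoint_closure.specializes (subset_closure (htZ rfl)),
    coheight_eq_zero.2 fun y hy => ?_⟩
  have hy' : y ⤳ hZ.1.genericPoint := Scheme.le_iff_specializes.1 hy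
  refine Scheme.le_iff_specializes.2 ?_
  have hsub : Z ⊆ closure {y} := by
    conv_lhs => rw [← hc, ← hZ.1.isGenericPoint_genericPoint_closure.def]
    exact closure_minimal (Set.singleton_subset_iff.2 hy'.mem_closure) isClosed_closure
  have : closure {y} ⊆ Z := hZ.2 isIrreducible_singleton.closure hsub
  exact specializes_iff_mem_closure.2 (by
    rw [hZ.1.isGenericPoint_genericPoint_closure.def, hc]; exact this (subset_closure rfl))

variable {S : Scheme.{u}} {X Y X' : Sp S} {f : Y ⟶ X} {ν : X' ⟶ X} {f' : Y ⟶ X'}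

/-- The source is schematically dense in the relative normalization. -/
theorem dominant_of_isRelNormalization (hY : IsAlgSpace Y) (hX' : IsAlgSpace X') (h : IsRelNormalization f ν f') :
    IsSchImage f' (𝟙 X') := by
  obtain ⟨Z, j, hj⟩ := exists_schImage hY hX' f'
  obtain ⟨g, hg⟩ := hj.2.1
  have hν := isIntegralMor_iff_repWith.1 h.2.1
  have hjν : IsIntegralMor (j ≫ ν) :=
    isIntegralMor_iff_repWith.2 (repWith_comp (repWith_integral_of_closedImmersion hj.1) hν)
  obtain ⟨s, ⟨hs₁, hs₂⟩, -⟩ := h.2.2 Z.property (j ≫ ν) g hjν (by rw [← Category.assoc, hg, h.1])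
  have hsj : s ≫ j = 𝟙 X' := (h.2.2 hX' ν f' h.2.1 h.1).unique
    ⟨by rw [reassoc_of% hs₁, hg], by rw [Category.assoc, hs₂]⟩ ⟨Category.comp_id _, Category.id_comp _⟩
  refine ⟨repWith_of_isIso _ _, ⟨f', Category.comp_id _⟩, fun Z' i hZ' hi hf => ?_⟩
  obtain ⟨k, hk⟩ := hj.2.2 i hZ' hi hf
  exact ⟨s ≫ k, by rw [Category.assoc, hk, hsj]⟩

theorem exists_codimZero_lift (hX : IsAlgSpace X) (hY : IsAlgSpace Y) (hX' : IsAlgSpace X')
    (hqc : IsQuasiCompactMor f) (h : IsRelNormalization f ν f') (x' : Points X')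
    (hx' : HasAt (fun U u => ringKrullDim ↥(U.presheaf.stalk u) = 0) X' x') :
    ∃ y : Points Y, HasAt (fun U u => ringKrullDim ↥(U.presheaf.stalk u) = 0) Y y ∧ Points.map f' y = x' := by
  obtain ⟨U, T, b, c, k, hb, hbs, hc, hcs, hk, hkq⟩ := exists_qc_chart hY hX hqc
  have hν := isIntegralMor_iff_repWith.1 h.2.1
  obtain ⟨m, hm₁, hm₂⟩ := exists_chart_map hk hν h.1
  obtain ⟨hmq, hker⟩ := ker_chart_map_eq_bot hX hY hX' hb hbs hc hcs hk hν h.1
    (dominant_of_isRelNormalization hY hX' h) hm₁ hm₂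
  have hae : RepWith @Etale (hν.rep.fst b) := repWith_of_isPullback (hν.rep.isPullback b).flip hb
  obtain ⟨z, rfl⟩ := surjective_ofPt (repWith_of_isPullback (hν.rep.isPullback b).flip hbs) x'
  obtain ⟨V, a, v, ha, hav, hv⟩ := hx'
  have hz : coheight z = 0 := by
    rw [coheight_eq_of_charts hae ha hav.symm]
    rw [ringKrullDim_stalk_eq_coheight] at hv
    exact_mod_cast hv
  have hcl : z ∈ closure (m.left '' Set.univ) := by
    rw [Set.image_univ, ← Scheme.Hom.support_ker, hker, Scheme.IdealSheafData.support_bot]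
    trivial
  obtain ⟨t, -, ht⟩ := ProConsLib.exists_specializes_of_mem_closure_image_scheme
    (E := Set.univ) (fun x => ⟨Set.univ, isOpen_univ, trivial, ∅, by simp, by simp⟩) m.left hcl
  obtain ⟨η, hη, hη0⟩ := exists_codimZero_specializes t
  have hmz : m.left η = z := eq_of_specializes_of_coheight hz ((hη.map m.left.continuous).trans ht)
  refine ⟨Points.ofPt (c ≫ pullback.fst f b) η, ⟨T, c ≫ pullback.fst f b, η, repWith_comp hc (repWith_fst f hb),
    rfl, ?_⟩, ?_⟩
  · show ringKrullDim ↥(T.left.presheaf.stalk η) = 0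
    rw [ringKrullDim_stalk_eq_coheight, hη0]
    rfl
  · rw [Points.map_ofPt, Category.assoc, ← hm₁, ofPt_comp, hmz]

end Groth.Agent.AlgSpDec.RelNorm
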