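import Groth.Agent.AlgSpDec.LqfQuot
import Groth.Agent.AlgSpDec.LqfSplitZ
import Groth.Agent.AlgSpDec.SchImageChart

/-!
# Morphisms out of an algebraic space glue along a jointly surjective etale family of schemes
-/

set_option autoImplicit false
set_option backward.isDefEq.respectTransparency false
set_option backward.isDefEq.respectTransparency.types false

universe u

open CategoryTheory CategoryTheory.Limits AlgebraicGeometry AlgSp Groth.Agent.AlgSpLib Groth.Agent.AlgSpPts

namespace Groth.Agent.AlgSpDec.RelNorm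

variable {S : Scheme.{u}} {F Z : Sp S} {ι : Type u} {A : ι → Over S}

theorem exists_atlas_of_family (hF : IsAlgSpace F) (a : ∀ i, (yon S).obj (A i) ⟶ F)
    (ha : ∀ i, RepWith @Etale (a i)) (hs : ∀ p, ∃ i v, Points.ofPt (a i) v = p) :
    ∃ q : (yon S).obj (sigmaOver A) ⟶ F, RepWith @Etale q ∧ RepWith @Surjective q ∧
      ∀ i, (yon S).map (sigmaι A i) ≫ q = a i := by
  obtain ⟨q, hq⟩ := exists_hom_sigma A a
  have hr : Representable q := hF.representable_from_yon _
  refine ⟨q, repWith_etale_sigma hr fun i => by rw [hq]; exact ha i,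
    repWith_surjective_of_surjective hr fun p => ?_, hq⟩
  obtain ⟨i, v, rfl⟩ := hs p
  refine ⟨Points.ofScheme _ ((sigmaι A i).left v), ?_⟩
  rw [← Points.ofPt_eq_map_ofScheme, ← ofPt_comp, hq]

/-- Maps which agree on a jointly surjective etale family are equal. -/
theorem hom_ext_of_family (hF : IsAlgSpace F) (a : ∀ i, (yon S).obj (A i) ⟶ F)
    (ha : ∀ i, RepWith @Etale (a i)) (hs : ∀ p, ∃ i v, Points.ofPt (a i) v = p) {k k' : F ⟶ Z}
    (h : ∀ i, a i ≫ k = a i ≫ k') : k = k' := by
  obtain ⟨q, hq, hqs, hqa⟩ := exists_atlas_of_family hF a ha hs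
  have : Epi q := epi_of_etale_surjective hq hqs
  rw [← cancel_epi q]
  exact hom_ext_sigma A fun i => by rw [reassoc_of% (hqa i), reassoc_of% (hqa i), h]

/-- A compatible family of maps on a jointly surjective etale family glues. -/
theorem exists_glue (hF : IsAlgSpace F) (a : ∀ i, (yon S).obj (A i) ⟶ F)
    (ha : ∀ i, RepWith @Etale (a i)) (hs : ∀ p, ∃ i v, Points.ofPt (a i) v = p)
    (k : ∀ i, (yon S).obj (A i) ⟶ Z)
    (hk : ∀ (i j : ι) ⦃T : Over S⦄ (x : T ⟶ A i) (y : T ⟶ A j), (yon S).map x ≫ a i = (yon S).map y ≫ a j →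
      (yon S).map x ≫ k i = (yon S).map y ≫ k j) :
    ∃ K : F ⟶ Z, ∀ i, a i ≫ K = k i := by
  obtain ⟨q, hq, hqs, hqa⟩ := exists_atlas_of_family hF a ha hs
  obtain ⟨kσ, hkσ⟩ := exists_hom_sigma A k
  have := isLocallySurjective_of_etale_surjective hq hqs
  let R := hq.rep.pullback q
  let t : R ⟶ sigmaOver A := hq.rep.fst' q
  let s : R ⟶ sigmaOver A := hq.rep.snd q
  have sq : IsPullback ((yon S).map t) ((yon S).map s) q q := hq.rep.isPullback' q
  let 𝒰 := sigmaOpenCover fun i => (A i).left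
  obtain ⟨K, hK⟩ := exists_desc_of_kernelPair sq kσ (by
    refine hom_ext_of_openCover (𝒰.pullback₁ t.left) _ _ fun i => ?_
    let 𝒲 := 𝒰.pullback₁ t.left
    let W : Over S := Over.mk (𝒲.f i ≫ R.hom)
    let w : W ⟶ R := CategoryTheory.Over.homMk (𝒲.f i) rfl
    change (yon S).map w ≫ (yon S).map t ≫ kσ = (yon S).map w ≫ (yon S).map s ≫ kσ
    let x : W ⟶ A i := CategoryTheory.Over.homMk (pullback.snd t.left (𝒰.f i)) (by
      change _ = pullback.fst t.left _ ≫ R.hom
      rw [← Over.w t, ← Category.assoc, pullback.condition, Category.assoc]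
      exact congrArg (pullback.snd _ _ ≫ ·) (Sigma.ι_desc (fun i => (A i).hom) i).symm)
    have hx : x ≫ sigmaι A i = w ≫ t := Over.OverMorphism.ext pullback.condition.symm
    refine hom_ext_of_openCover (𝒰.pullback₁ (w ≫ s).left) _ _ fun j => ?_
    let 𝒱 := 𝒰.pullback₁ (w ≫ s).left
    let V : Over S := Over.mk (𝒱.f j ≫ W.hom)
    let v : V ⟶ W := CategoryTheory.Over.homMk (𝒱.f j) rfl
    change (yon S).map v ≫ (yon S).map w ≫ (yon S).map t ≫ kσ = (yon S).map v ≫ (yon S).map w ≫ (yon S).map s ≫ kσ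
    let y : V ⟶ A j := CategoryTheory.Over.homMk (pullback.snd (w ≫ s).left (𝒰.f j)) (by
      change _ = pullback.fst (w ≫ s).left _ ≫ W.hom
      rw [← Over.w (w ≫ s), ← Category.assoc, pullback.condition, Category.assoc]
      exact congrArg (pullback.snd _ _ ≫ ·) (Sigma.ι_desc (fun i => (A i).hom) j).symm)
    have hy : y ≫ sigmaι A j = v ≫ w ≫ s := Over.OverMorphism.ext pullback.condition.symm
    have hxv : (v ≫ x) ≫ sigmaι A i = v ≫ w ≫ t := by rw [Category.assoc, hx]
    have e := hk i j (v ≫ x) y (by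
      rw [← hqa i, ← hqa j, ← Functor.map_comp_assoc, ← Functor.map_comp_assoc, hxv, hy, Functor.map_comp,
        Functor.map_comp, Functor.map_comp, Functor.map_comp, Category.assoc, Category.assoc, Category.assoc,
        Category.assoc, sq.w])
    rw [← hkσ i, ← hkσ j, ← Functor.map_comp_assoc, ← Functor.map_comp_assoc, hxv, hy] at e
    simpa only [Functor.map_comp, Category.assoc] using e)
  exact ⟨K, fun i => by rw [← hqa i, Category.assoc, hK, hkσ]⟩

end Groth.Agent.AlgSpDec.RelNorm
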