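import Groth.Agent.AlgSpDec.RelNorm.Stable
import Groth.Agent.AlgSpDec.RelNorm.Dominant
import Groth.Agent.AlgSpDec.SchemeNormalization
import Groth.Agent.AlgSpDec.LqfScheme
import Groth.Agent.AlgSpPts.SepDescent
import Mathlib.AlgebraicGeometry.ZariskisMainTheorem
import Mathlib.AlgebraicGeometry.QuasiAffine

/-!
# Zariski's main theorem through the relative normalization
-/

set_option autoImplicit false
set_option backward.isDefEq.respectTransparency false
set_option backward.isDefEq.respectTransparency.types false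

universe u

open CategoryTheory CategoryTheory.Limits AlgebraicGeometry AlgSp Groth.Agent.AlgSpLib Groth.Agent.AlgSpPts

namespace Groth.Agent.AlgSpDec.RelNorm

variable {S : Scheme.{u}} {X Y Y' : Sp S} {f : X ⟶ Y} {ν : Y' ⟶ Y} {f' : X ⟶ Y'}

theorem repWith_quasiCompact_of_representable (hr : Representable f) (hqc : IsQuasiCompactMor f) :
    RepWith @QuasiCompact f :=
  repWith_of_squares fun T t => ⟨hr.pullback t, hr.fst t, hr.snd t, hr.isPullback t,
    quasiCompact_of_isQuasiCompactMor _ (isQuasiCompactMor_of_isPullback (hr.isPullback t) hqc)⟩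

theorem repWith_quasiCompact_fac (hr : RepWith @QuasiCompact f) (hν : RepWith @IsIntegralHom ν)
    (hfac : f' ≫ ν = f) : RepWith @QuasiCompact f' :=
  of_comp_of_diagonal (RepWith @QuasiCompact) f' ν (hfac ▸ hr)
    (repWith_mono (fun _ _ e (_ : IsClosedImmersion e) => inferInstanceAs (QuasiCompact e)) _
      (repWith_diagonal_of_integral hν))

theorem isOpenImmersion_chart {Q U N : Over S} {k : Q ⟶ U} [QuasiCompact k.left] [IsSeparated k.left]
    [LocallyQuasiFinite k.left] [LocallyOfFiniteType k.left] {νN : N ⟶ U} {g : Q ⟶ N}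
    (h : IsRelNormalization ((yon S).map k) ((yon S).map νN) ((yon S).map g)) : IsOpenImmersion g.left := by
  let N₀ : Over S := Over.mk (k.left.fromNormalization ≫ U.hom)
  let ν₀ : N₀ ⟶ U := CategoryTheory.Over.homMk k.left.fromNormalization rfl
  let g₀ : Q ⟶ N₀ := CategoryTheory.Over.homMk k.left.toNormalization (by
    show k.left.toNormalization ≫ k.left.fromNormalization ≫ U.hom = Q.hom
    rw [k.left.toNormalization_fromNormalization_assoc, Over.w k])
  have h₀ : IsRelNormalization ((yon S).map k) ((yon S).map ν₀) ((yon S).map g₀) :=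
    SchemeNormalization.isRelNormalization k g₀ ν₀ (Iso.refl _) (Category.comp_id _) (Category.id_comp _)
  obtain ⟨a, ⟨ha₁, ha₂⟩, -⟩ := h₀.2.2 (IsAlgSpace.yon_obj N) _ _ h.2.1 h.1
  obtain ⟨c, ⟨hc₁, hc₂⟩, -⟩ := h.2.2 (IsAlgSpace.yon_obj N₀) _ _ h₀.2.1 h₀.1
  obtain ⟨a, rfl⟩ := (yon S).map_surjective a
  obtain ⟨c, rfl⟩ := (yon S).map_surjective c
  have e₁ : a ≫ c = 𝟙 N₀ := (yon S).map_injective ((h₀.2.2 (IsAlgSpace.yon_obj N₀) _ _ h₀.2.1 h₀.1).unique
    ⟨by rw [Functor.map_comp, reassoc_of% ha₁, hc₁], by rw [Functor.map_comp, Category.assoc, hc₂, ha₂]⟩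
    ⟨by rw [CategoryTheory.Functor.map_id, Category.comp_id], by rw [CategoryTheory.Functor.map_id, Category.id_comp]⟩)
  have e₂ : c ≫ a = 𝟙 N := (yon S).map_injective ((h.2.2 (IsAlgSpace.yon_obj N) _ _ h.2.1 h.1).unique
    ⟨by rw [Functor.map_comp, reassoc_of% hc₁, ha₁], by rw [Functor.map_comp, Category.assoc, ha₂, hc₂]⟩
    ⟨by rw [CategoryTheory.Functor.map_id, Category.comp_id], by rw [CategoryTheory.Functor.map_id, Category.id_comp]⟩)
  have : IsIso a.left := ⟨c.left, by rw [← Over.comp_left, e₁, Over.id_left], by rw [← Over.comp_left, e₂, Over.id_left]⟩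
  rw [← show g₀ ≫ a = g from (yon S).map_injective (by rw [Functor.map_comp, ha₁]), Over.comp_left]
  show IsOpenImmersion (k.left.toNormalization ≫ a.left)
  infer_instance

theorem openImmersion_of_lqf_separated (hX : IsAlgSpace X) (hY : IsAlgSpace Y) (hY' : IsAlgSpace Y')
    (hqf : LocP (@LocallyQuasiFinite ⊓ @LocallyOfFiniteType) f)
    (hqc : IsQuasiCompactMor f) (hsep : IsSeparatedMor f) (hn : IsRelNormalization f ν f') :
    RepWith @IsOpenImmersion f' ∧ IsQuasiCompactMor f' ∧ IsQuasiAffineMor f := by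
  have hν := isIntegralMor_iff_repWith.1 hn.2.1
  have hr := representable_of_lqf_separated hX hY f hqf hsep
  have hqs : IsQuasiSeparatedMor f :=
    repWith_mono (fun _ _ e (_ : IsClosedImmersion e) => inferInstanceAs (QuasiCompact e)) _ hsep
  have hfq := repWith_quasiCompact_of_representable hr hqc
  have hf'q := repWith_quasiCompact_fac hfq hν hn.1
  have hopen : RepWith @IsOpenImmersion f' := by
    obtain ⟨U, a, ha, has⟩ := hY.atlas
    have sQ := hfq.rep.isPullback a
    have sN := hν.rep.isPullback a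
    let k := hfq.rep.snd a
    obtain ⟨g, hg⟩ := (yon S).map_surjective (sN.lift (hfq.rep.fst a ≫ f') ((yon S).map k)
      (by rw [Category.assoc, hn.1, sQ.w]))
    have hg₁ : (yon S).map g ≫ hν.rep.fst a = hfq.rep.fst a ≫ f' := by rw [hg, IsPullback.lift_fst]
    have hg₂ : (yon S).map g ≫ (yon S).map (hν.rep.snd a) = (yon S).map k := by rw [hg, IsPullback.lift_snd]
    have hBC := (bc_of_scheme hY hX hY' hqc hqs hn a ha).of_squares sQ sN hg₂ hg₁
    haveI : QuasiCompact k.left := hfq.property_snd a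
    haveI : IsSeparated k.left := (isSeparatedMor_yon_map_iff k).1 (isSeparatedMor_of_isPullback sQ hsep)
    have hl := locP_yon_map (locP_of_isPullback sQ hX hY (IsAlgSpace.yon_obj U) hqf)
    haveI : LocallyQuasiFinite k.left := hl.1
    haveI : LocallyOfFiniteType k.left := hl.2
    have hgo := isOpenImmersion_chart hBC
    have sq : IsPullback (hfq.rep.fst a) ((yon S).map g) f' (hν.rep.fst a) := by
      refine IsPullback.of_bot ?_ hg₁.symm sN
      rw [hg₂, hn.1]
      exact sQ
    exact (isLocalOnBase_fpqc_isOpenImmersion (fun _ : PUnit.{u + 1} => _) (fun _ => hν.rep.fst a) hY'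
      (fun _ => IsAlgSpace.yon_obj _) (isFpqcCover_of_isEtaleMor (IsAlgSpace.yon_obj _) hY'
        (isEtaleMor_of_repWith (repWith_of_isPullback sN.flip ha))
        (surjective_map_of_repWith (repWith_of_isPullback sN.flip has))) f' hX (fun _ => _) (fun _ => (yon S).map g)
      (fun _ => hfq.rep.fst a) (fun _ => IsAlgSpace.yon_obj _) (fun _ => sq)).2
      fun _ => (repWith_yon_map_iff @IsOpenImmersion g).2 hgo
  refine ⟨hopen, isQuasiCompactMor_of_repWith hf'q, fun Z hZ g => ?_⟩
  haveI : IsAffine Z.left := hZ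
  let A := hν.rep.pullback g
  haveI : IsIntegralHom (hν.rep.snd g).left := hν.property_snd g
  haveI : IsAffine A.left := isAffine_of_isAffineHom (hν.rep.snd g).left
  have sA := hν.rep.isPullback g
  have sW := hopen.rep.isPullback (hν.rep.fst g)
  let j := hopen.rep.snd (hν.rep.fst g)
  haveI : IsOpenImmersion j.left := hopen.property_snd _
  haveI : QuasiCompact j.left := hf'q.property (hν.rep.fst g) _ _ sW
  haveI : CompactSpace (hopen.rep.pullback (hν.rep.fst g)).left := QuasiCompact.compactSpace_of_compactSpace j.left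
  refine ⟨_, j ≫ hν.rep.snd g, hopen.rep.fst (hν.rep.fst g), ?_, Scheme.IsQuasiAffine.of_isImmersion j.left⟩
  rw [Functor.map_comp, ← hn.1]
  exact sW.paste_vert sA

end Groth.Agent.AlgSpDec.RelNorm
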