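import Groth.Agent.AlgSpDec.RelNorm.Split
import Groth.Agent.AlgSpDec.RelNorm.Zmt
import Groth.Agent.AlgSpDec.PointsSpectral
import Groth.Agent.S10313
import Mathlib.AlgebraicGeometry.ZariskisMainTheorem

/-!
# The relative normalization is an isomorphism over the quasi-finite locus
-/

set_option autoImplicit false
set_option backward.isDefEq.respectTransparency false
set_option backward.isDefEq.respectTransparency.types false

universe u

open CategoryTheory CategoryTheory.Limits AlgebraicGeometry AlgSp Groth.Agent.AlgSpLib Groth.Agent.AlgSpPts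

namespace Groth.Agent.AlgSpDec.RelNorm

variable {S : Scheme.{u}}

/-- Through a point where `f` is quasi-finite there is, etale locally on the base, a finite clopen piece. -/
theorem exists_finite_piece {X Y : AlgSp.Space S} (f : X ⟶ Y) (hl : LocP @LocallyOfFiniteType f.hom)
    (hs : IsSeparatedMor f.hom) (x : Points X.obj)
    (hx : HasAtMor (fun U _ h u => ∃ W : U.Opens, u ∈ W ∧ LocallyQuasiFinite (W.ι ≫ h) ∧
      LocallyOfFiniteType (W.ι ≫ h)) f.hom x) :
    ∃ (T Q : Over S) (b : (yon S).obj T ⟶ Y.obj) (w : (yon S).obj Q ⟶ pullback f.hom b) (q : Q ⟶ T),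
      RepWith @Etale b ∧ RepWith @IsOpenImmersion w ∧ RepWith @IsClosedImmersion w ∧ IsFinite q.left ∧
        w ≫ pullback.snd f.hom b = (yon S).map q ∧ x ∈ Set.range (Points.ofPt (w ≫ pullback.fst f.hom b)) := by
  obtain ⟨X', i, hi, hig, -, hbc⟩ := Groth.Agent.S10313.result f hl
  have hid : IsPullback (𝟙 X.obj) f.hom f.hom (𝟙 Y.obj) := IsPullback.id_horiz _
  obtain ⟨x', rfl⟩ : x ∈ Set.range (Points.map i.hom) := by
    have := (hbc Y X (𝟙 Y) (𝟙 X) f hid x).2 hx
    rwa [show (𝟙 X : X ⟶ X).hom = 𝟙 X.obj from rfl, Points.map_id] at this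
  have : Mono i.hom := mono_of_repWith (repWith_mono (fun _ _ e (_ : IsOpenImmersion e) => (inferInstance : Mono e)) _ hi)
  have hgs : IsSeparatedMor (i.hom ≫ f.hom) := isSeparatedMor_comp (isSeparatedMor_of_mono i.hom) hs
  have hgq : LocP (@LocallyQuasiFinite ⊓ @LocallyOfFiniteType) (i.hom ≫ f.hom) := hig
  have hgr := representable_of_lqf_separated X'.property Y.property _ hgq hgs
  obtain ⟨V₀, b₀, hb₀, hb₀s⟩ := Y.property.atlas
  have sqA := hgr.isPullback b₀
  let k := hgr.snd b₀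
  have hk := locP_yon_map (locP_of_isPullback sqA X'.property Y.property (IsAlgSpace.yon_obj _) hgq)
  have : LocallyQuasiFinite k.left := hk.1
  have : LocallyOfFiniteType k.left := hk.2
  have : IsSeparated k.left := (isSeparatedMor_yon_map_iff k).1 (isSeparatedMor_of_isPullback sqA hgs)
  obtain ⟨v₀, hv₀⟩ := surjective_ofPt hb₀s (Points.map (i.hom ≫ f.hom) x')
  obtain ⟨a, ha, hka⟩ := exists_lift sqA hv₀.symm
  obtain ⟨U, gU, _, -, V, W, v, hVW, hfin, hfst⟩ :=
    exists_etale_isCompl_of_quasiFiniteAt k.left (x := a) rfl (k.left.quasiFiniteAt a)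
  let T : Over S := Over.mk (gU ≫ V₀.hom)
  let tg : T ⟶ V₀ := CategoryTheory.Over.homMk gU rfl
  let Q₀ := pullback k tg
  let p₁ : Q₀ ⟶ hgr.pullback b₀ := pullback.fst k tg
  let p₂ : Q₀ ⟶ T := pullback.snd k tg
  have sq₀ : IsPullback p₁.left p₂.left k.left gU := (IsPullback.of_hasPullback k tg).map (Over.forget S)
  let e := sq₀.isoPullback
  let V' : Q₀.left.Opens := e.hom ⁻¹ᵁ V
  let Q : Over S := Over.mk (V'.ι ≫ Q₀.hom)
  let vι : Q ⟶ Q₀ := CategoryTheory.Over.homMk V'.ι rfl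
  have hq : IsFinite (vι ≫ p₂).left := by
    show IsFinite (V'.ι ≫ p₂.left)
    rw [← sq₀.isoPullback_hom_snd, ← Category.assoc, ← morphismRestrict_ι, Category.assoc]
    infer_instance
  let b := (yon S).map tg ≫ b₀
  have hb : RepWith @Etale b := repWith_comp ((repWith_yon_map_iff @Etale tg).2 ‹Etale gU›) hb₀
  have sqT : IsPullback ((yon S).map p₁ ≫ hgr.fst b₀) ((yon S).map p₂) (i.hom ≫ f.hom) b :=
    ((IsPullback.of_hasPullback k tg).map (yon S)).paste_horiz sqA
  have sqP := IsPullback.of_hasPullback f.hom b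
  let m := sqP.lift (((yon S).map p₁ ≫ hgr.fst b₀) ≫ i.hom) ((yon S).map p₂) (by rw [Category.assoc]; exact sqT.w)
  have sqm : IsPullback ((yon S).map p₁ ≫ hgr.fst b₀) m i.hom (pullback.fst f.hom b) :=
    IsPullback.of_bot' sqT sqP
  have hm : RepWith @IsOpenImmersion m := repWith_of_isPullback sqm hi
  let w := (yon S).map vι ≫ m
  have hw : RepWith @IsOpenImmersion w :=
    repWith_comp ((repWith_yon_map_iff @IsOpenImmersion vι).2 (inferInstanceAs (IsOpenImmersion V'.ι))) hm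
  have hwq : w ≫ pullback.snd f.hom b = (yon S).map (vι ≫ p₂) := by
    rw [Category.assoc, sqP.lift_snd, Functor.map_comp]
  have hwf : RepWith @IsFinite w :=
    of_comp_of_diagonal (RepWith @IsFinite) w (pullback.snd f.hom b) (hwq ▸ (repWith_yon_map_iff @IsFinite _).2 hq)
      (repWith_mono (fun _ _ e (_ : IsClosedImmersion e) => (inferInstance : IsFinite e)) _
        (isSeparatedMor_of_isPullback sqP hs))
  have hwc : RepWith @IsClosedImmersion w := repWith_mono (fun _ _ e (h : IsFinite e ∧ Mono e) =>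
    (IsClosedImmersion.iff_isFinite_and_mono _).2 h) _ ⟨hwf.rep, fun _ _ g fst snd sq =>
      (⟨hwf.property g fst snd sq, have : IsOpenImmersion snd.left := hw.property g fst snd sq; inferInstance⟩ :
        IsFinite snd.left ∧ Mono snd.left)⟩
  refine ⟨T, Q, b, w, vι ≫ p₂, hb, hw, hwc, hq, hwq, ⟨e.inv v.1, ?_⟩, ?_⟩
  · show e.hom (e.inv v.1) ∈ V
    rw [← Scheme.Hom.comp_apply, e.inv_hom_id]
    exact v.2
  · rw [Category.assoc, sqP.lift_fst, Category.assoc, ofPt_comp, ofPt_comp, ← Points.map_ofPt]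
    refine congrArg (Points.map i.hom) ?_
    rw [← ha]
    refine congrArg (Points.ofPt _) ?_
    show p₁.left (e.inv v.1) = a
    rw [← Scheme.Hom.comp_apply, sq₀.isoPullback_inv_fst]
    exact hfst

/-- Over the quasi-finite locus a morphism agrees with its relative normalization. -/
theorem exists_iso_open {X Y Y' : AlgSp.Space S} (f : X ⟶ Y) (ν : Y' ⟶ Y) (f' : X ⟶ Y')
    (hf1 : IsFiniteTypeMor f.hom) (hf2 : IsSeparatedMor f.hom)
    (hn : IsRelNormalization f.hom ν.hom f'.hom) :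
    ∃ (U' : AlgSp.Space S) (j : U' ⟶ Y'), RepWith @IsOpenImmersion j.hom ∧
      ∀ (P : AlgSp.Space S) (fst : P ⟶ X) (snd : P ⟶ U'), IsPullback fst.hom snd.hom f'.hom j.hom →
        IsIso snd.hom ∧ Set.range (Points.map fst.hom) = {x | HasAtMor (fun U _ h u => ∃ W : U.Opens, u ∈ W ∧
          LocallyQuasiFinite (W.ι ≫ h) ∧ LocallyOfFiniteType (W.ι ≫ h)) f.hom x} := by
  have hl := hf1.1
  have hqs : IsQuasiSeparatedMor f.hom :=
    repWith_mono (fun _ _ e (_ : IsClosedImmersion e) => inferInstanceAs (QuasiCompact e)) _ hf2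
  let Qs : Set (Points X.obj) := {x | HasAtMor (fun U _ h u => ∃ W : U.Opens, u ∈ W ∧
    LocallyQuasiFinite (W.ι ≫ h) ∧ LocallyOfFiniteType (W.ι ≫ h)) f.hom x}
  have key : ∀ x ∈ Qs, ∃ (Q : Over S) (ψ : (yon S).obj Q ⟶ Y'.obj) (l : (yon S).obj Q ⟶ X.obj),
      RepWith @Etale ψ ∧ IsPullback l (𝟙 _) f'.hom ψ ∧ x ∈ Set.range (Points.ofPt l) ∧
        ∀ z, Points.ofPt l z ∈ Qs := by
    intro x hx
    obtain ⟨T, Q, b, w, q, hb, hw, hwc, hq, hwq, hxl⟩ := exists_finite_piece f hl hf2 x hx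
    have hν := isIntegralMor_iff_repWith.1 hn.2.1
    have sqP := IsPullback.of_hasPullback f.hom b
    have sqN := hν.rep.isPullback b
    let N := hν.rep.pullback b
    let g₀ : pullback f.hom b ⟶ (yon S).obj N := sqN.lift (pullback.fst _ _ ≫ f'.hom) (pullback.snd _ _)
      (by rw [Category.assoc, hn.1, sqP.w])
    have hn₀ : IsRelNormalization (pullback.snd f.hom b) ((yon S).map (hν.rep.snd b)) g₀ :=
      (bc_of_scheme Y.property X.property Y'.property hf1.2 hqs hn b hb).of_squares sqP sqN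
        (sqN.lift_snd _ _ _) (sqN.lift_fst _ _ _)
    have hPa := isAlgSpace_pullback X.property (IsAlgSpace.yon_obj T) Y.property f.hom b
    obtain ⟨φ, hφ, sqφ⟩ := exists_openImmersion_of_clopen hPa hn₀ hw hwc hwq
    have sqf' : IsPullback (pullback.fst f.hom b) g₀ f'.hom (hν.rep.fst b) :=
      IsPullback.of_bot (by
        rw [sqN.lift_snd]
        rw [hn.1]
        exact sqP) (sqN.lift_fst _ _ _).symm sqN
    refine ⟨Q, (yon S).map φ ≫ hν.rep.fst b, w ≫ pullback.fst f.hom b,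
      repWith_comp ((repWith_yon_map_iff @Etale φ).2 inferInstance) (repWith_of_isPullback sqN.flip hb),
      sqφ.paste_horiz sqf', hxl, fun z => ?_⟩
    obtain ⟨U, V₀, a, b₁, k, ha, ha', hb₁, -, w₁⟩ := exists_chart X.property Y.property f.hom
    obtain ⟨t, ht⟩ := surjective_ofPt ha' (Points.ofPt (w ≫ pullback.fst f.hom b) z)
    have hsn : LocP @LocallyOfFiniteType (pullback.snd f.hom b) :=
      locP_of_isPullback sqP X.property Y.property (IsAlgSpace.yon_obj _) hl
    have hd := RelDimSp.baseChange sqP X.property Y.property (IsAlgSpace.yon_obj _) hl (Points.ofPt w z)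
      (FlatMor.fibreDimAt k.left t) ⟨U, V₀, a, b₁, k, t, ha, hb₁, w₁, by rw [ht, Points.map_ofPt], rfl⟩
    rw [FieldFibre.hasAtMor_iff hsn (repWith_mono (fun _ _ e (_ : IsOpenImmersion e) => (inferInstance : Etale e)) _ hw)
      (repWith_id _ T) (by rw [Category.comp_id]; exact hwq), fibreDimAt_eq_zero_of_lqf q.left] at hd
    exact (S10313.qfAt_iff hl _).2 ⟨U, V₀, a, b₁, k, t, ha, hb₁, w₁, ht, hd.symm⟩
  obtain ⟨U₀, a₀, -, ha₀⟩ := X.property.atlas
  let ι : Type u := {u : ↥U₀.left // Points.ofPt a₀ u ∈ Qs}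
  choose Qf ψ l hψ hsq hmem hqf using fun x : ι => key _ x.2
  let Ω : Set (Points Y'.obj) := ⋃ x, Set.range (Points.ofPt (ψ x))
  have hΩ : IsOpen Ω := isOpen_iUnion fun x => (isOpenMap_ofPt (hψ x)).isOpen_range
  obtain ⟨U', j, hU', hj, hrange⟩ := exists_open_subspace Y'.property hΩ
  refine ⟨⟨U', hU'⟩, ObjectProperty.homMk j, hj, fun P fst snd sq => ?_⟩
  change IsPullback fst.hom snd.hom f'.hom j at sq
  have hlift : ∀ x, ∃ ψ' : (yon S).obj (Qf x) ⟶ U', ψ' ≫ j = ψ x := by
    intro x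
    let e := hj.rep.snd (ψ x)
    have : IsOpenImmersion e.left := hj.property_snd (ψ x)
    have : Surjective e.left := ⟨fun t => by
      obtain ⟨u, hu⟩ : Points.ofPt (ψ x) t ∈ Set.range (Points.map j) := by
        rw [hrange]; exact Set.mem_iUnion.2 ⟨x, t, rfl⟩
      obtain ⟨z, -, hz⟩ := exists_lift (hj.rep.isPullback (ψ x)) hu
      exact ⟨z, hz⟩⟩
    have : IsIso e.left := (isIso_iff_isOpenImmersion_and_surjective _).2 ⟨inferInstance, inferInstance⟩
    have : IsIso ((Over.forget S).map e) := ‹IsIso e.left›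
    have : IsIso e := isIso_of_reflects_iso e (Over.forget S)
    refine ⟨inv ((yon S).map e) ≫ hj.rep.fst (ψ x), ?_⟩
    rw [Category.assoc, (hj.rep.isPullback (ψ x)).w, IsIso.inv_hom_id_assoc]
  choose ψ' hψ' using hlift
  have : Mono j := mono_of_repWith (repWith_mono (fun _ _ e (_ : IsOpenImmersion e) => (inferInstance : Mono e)) _ hj)
  have hψ'e : ∀ x, RepWith @Etale (ψ' x) := fun x => repWith_etale_of_comp _ _ (by rw [hψ']; exact hψ x)
    (repWith_mono (fun _ _ e (_ : IsOpenImmersion e) => (inferInstance : Etale e)) _ hj)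
  let l' : ∀ x, (yon S).obj (Qf x) ⟶ P.obj := fun x => sq.lift (l x) (ψ' x) (by rw [(hsq x).w, hψ', Category.id_comp])
  have hsqb : ∀ x, IsPullback (l' x) (𝟙 _) snd.hom (ψ' x) := fun x => by
    refine IsPullback.of_right ?_ ((sq.lift_snd ..).trans (Category.id_comp _).symm) sq
    rw [sq.lift_fst, hψ']
    exact hsq x
  have hsU : ∀ p : Points U', ∃ x v, Points.ofPt (ψ' x) v = p := fun p => by
    have : Points.map j p ∈ Ω := hrange ▸ ⟨p, rfl⟩
    obtain ⟨x, v, hv⟩ := Set.mem_iUnion.1 this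
    exact ⟨x, v, (Groth.Agent.AlgSpDec.isOpenEmbedding_map' Y'.property hj).injective (by rw [Points.map_ofPt, hψ', hv])⟩
  have hsP : ∀ p : Points P.obj, ∃ x v, Points.ofPt (l' x) v = p := fun p => by
    obtain ⟨x, v, hv⟩ := hsU (Points.map snd.hom p)
    obtain ⟨z, hz, -⟩ := exists_point_of_isPullback (hsqb x) (x := p) (y := Points.ofScheme _ v)
      (by rw [← Points.ofPt_eq_map_ofScheme]; exact hv.symm)
    refine ⟨x, Points.toScheme _ z, ?_⟩
    rw [Points.ofPt_eq_map_ofScheme, Points.ofScheme_toScheme, hz]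
  have hlsnd : ∀ x, l' x ≫ snd.hom = ψ' x := fun x => sq.lift_snd _ _ _
  obtain ⟨K, hK⟩ := exists_glue hU' ψ' hψ'e hsU l' (fun x y R r r' h => by
    have h1 : (yon S).map r' ≫ l' y ≫ snd.hom = (yon S).map r ≫ ψ' x := by rw [hlsnd, h]
    have hl₁ := (hsqb x).lift_fst ((yon S).map r' ≫ l' y) ((yon S).map r) (by rw [Category.assoc]; exact h1)
    have hl₂ := (hsqb x).lift_snd ((yon S).map r' ≫ l' y) ((yon S).map r) (by rw [Category.assoc]; exact h1)
    rw [Category.comp_id] at hl₂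
    rw [hl₂] at hl₁
    exact hl₁)
  refine ⟨⟨K, hom_ext_of_family P.property l' (fun x => repWith_of_isPullback (hsqb x).flip (hψ'e x)) hsP fun x => ?_,
    hom_ext_of_family hU' ψ' hψ'e hsU fun x => ?_⟩, Set.Subset.antisymm ?_ fun x hx => ?_⟩
  · rw [reassoc_of% (hlsnd x), hK, Category.comp_id]
  · rw [reassoc_of% (hK x), hlsnd, Category.comp_id]
  · rintro _ ⟨p, rfl⟩
    obtain ⟨x, v, rfl⟩ := hsP p
    rw [Points.map_ofPt, sq.lift_fst]
    exact hqf x v
  · obtain ⟨u, rfl⟩ := surjective_ofPt ha₀ x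
    obtain ⟨v, hv⟩ := hmem ⟨u, hx⟩
    exact ⟨Points.ofPt (l' ⟨u, hx⟩) v, by rw [Points.map_ofPt, sq.lift_fst]; exact hv⟩

end Groth.Agent.AlgSpDec.RelNorm
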