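import Mathlib.AlgebraicGeometry.Morphisms.Affine
import Mathlib.AlgebraicGeometry.Morphisms.ClosedImmersion
import Mathlib.AlgebraicGeometry.Morphisms.Flat
import Mathlib.AlgebraicGeometry.Morphisms.Separated
import Mathlib.AlgebraicGeometry.IdealSheaf.Subscheme

/-!
# Subrings of sections cut out by schematically dominant factorizations through affine morphisms
-/

set_option autoImplicit false
set_option backward.isDefEq.respectTransparency false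

universe u

open CategoryTheory CategoryTheory.Limits AlgebraicGeometry

namespace Groth.Agent.AlgSpDec.RelNorm

variable {U T A A' : Scheme.{u}} {k : T ⟶ U}

theorem preimage_eq_of_comp {m : T ⟶ A} {a : A ⟶ U} (h : m ≫ a = k) (O : U.Opens) :
    k ⁻¹ᵁ O = m ⁻¹ᵁ (a ⁻¹ᵁ O) := by rw [← h, Scheme.Hom.comp_preimage]

/-- Sections over the preimage of an open, pulled back to `T`. -/
noncomputable def sec (m : T ⟶ A) (a : A ⟶ U) (h : m ≫ a = k) (O : U.Opens) :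
    Γ(A, a ⁻¹ᵁ O) ⟶ Γ(T, k ⁻¹ᵁ O) :=
  m.appLE _ _ (preimage_eq_of_comp h O).le

/-- The subring of sections of `T` coming from `A`. -/
noncomputable def secRange (m : T ⟶ A) (a : A ⟶ U) (h : m ≫ a = k) (O : U.Opens) : Subring Γ(T, k ⁻¹ᵁ O) :=
  (sec m a h O).hom.range

theorem sec_comp {m : T ⟶ A} {a : A ⟶ U} {m' : T ⟶ A'} {a' : A' ⟶ U} (h : m ≫ a = k) (h' : m' ≫ a' = k)
    (μ : A' ⟶ A) (hμ : m' ≫ μ = m) (hμa : μ ≫ a = a') (O : U.Opens) :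
    μ.appLE (a ⁻¹ᵁ O) (a' ⁻¹ᵁ O) (preimage_eq_of_comp hμa O).le ≫ sec m' a' h' O = sec m a h O := by
  subst hμ
  rw [sec, sec, Scheme.Hom.appLE_comp_appLE]

theorem sec_injective (m : T ⟶ A) (a : A ⟶ U) [IsAffineHom a] [QuasiCompact m] (hm : m.ker = ⊥) (h : m ≫ a = k)
    {O : U.Opens} (hO : IsAffineOpen O) : Function.Injective (sec m a h O) := by
  subst h
  have hV : IsAffineOpen (a ⁻¹ᵁ O) := hO.preimage a
  have := congr($(hm).ideal ⟨_, hV⟩)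
  rw [Scheme.Hom.ker_apply, Scheme.IdealSheafData.ideal_bot, Pi.bot_apply] at this
  have hinj : Function.Injective (m.app (a ⁻¹ᵁ O)).hom := (RingHom.injective_iff_ker_eq_bot _).2 this
  have e : sec m a rfl O = m.app (a ⁻¹ᵁ O) := (Scheme.Hom.app_eq_appLE m).symm
  rw [e]
  exact hinj

theorem secRange_le {m : T ⟶ A} {a : A ⟶ U} {m' : T ⟶ A'} {a' : A' ⟶ U} (h : m ≫ a = k) (h' : m' ≫ a' = k)
    (μ : A' ⟶ A) (hμ : m' ≫ μ = m) (hμa : μ ≫ a = a') (O : U.Opens) :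
    secRange m a h O ≤ secRange m' a' h' O := by
  rintro _ ⟨s, rfl⟩
  exact ⟨μ.appLE (a ⁻¹ᵁ O) (a' ⁻¹ᵁ O) (preimage_eq_of_comp hμa O).le s,
    congr($(sec_comp h h' μ hμ hμa O) s)⟩

theorem isIso_of_secRange_le {m : T ⟶ A} {a : A ⟶ U} {m' : T ⟶ A'} {a' : A' ⟶ U} [IsAffineHom a] [IsAffineHom a']
    [QuasiCompact m] [QuasiCompact m'] (hm : m.ker = ⊥) (hm' : m'.ker = ⊥)
    (h : m ≫ a = k) (h' : m' ≫ a' = k) (μ : A' ⟶ A) (hμ : m' ≫ μ = m) (hμa : μ ≫ a = a')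
    (hr : ∀ O : U.Opens, IsAffineOpen O → secRange m' a' h' O ≤ secRange m a h O) : IsIso μ := by
  subst hμa
  haveI : IsAffineHom μ := MorphismProperty.of_postcomp (W := @IsAffineHom) (W' := @IsSeparated) μ a (inferInstanceAs (IsSeparated a)) ‹_›
  rw [← MorphismProperty.isomorphisms.iff,
    IsZariskiLocalAtTarget.iff_of_iSup_eq_top (P := MorphismProperty.isomorphisms Scheme)
      (fun O : U.affineOpens => a ⁻¹ᵁ O.1)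
      (by rw [← Scheme.Hom.preimage_iSup, iSup_affineOpens_eq_top, Scheme.Hom.preimage_top])]
  intro O
  rw [MorphismProperty.isomorphisms.iff, isIso_morphismRestrict_iff_isIso_app μ (O.2.preimage a),
    ConcreteCategory.isIso_iff_bijective]
  have e : ∀ s, sec m' (μ ≫ a) h' O.1 (μ.app (a ⁻¹ᵁ O.1) s) = sec m a h O.1 s := fun s => by
    rw [← sec_comp h h' μ hμ rfl O.1, ConcreteCategory.comp_apply]
    congr 1
    exact congr($(Scheme.Hom.app_eq_appLE μ) s)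
  refine ⟨fun s t hst => sec_injective m a hm h O.2 ?_, fun t => ?_⟩
  · rw [← e, ← e]
    exact congrArg _ hst
  · obtain ⟨s, hs⟩ := hr O.1 O.2 ⟨t, rfl⟩
    exact ⟨s, sec_injective m' (μ ≫ a) hm' h' O.2 ((e s).trans hs)⟩

theorem secRange_le_sup {A₀ A₁ P : Scheme.{u}} {a₀ : A₀ ⟶ U} {a₁ : A₁ ⟶ U} [IsAffineHom a₀] [IsAffineHom a₁]
    {p₀ : P ⟶ A₀} {p₁ : P ⟶ A₁} (H : IsPullback p₀ p₁ a₀ a₁) {a' : A' ⟶ U} (μ : A' ⟶ P) [IsClosedImmersion μ]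
    (ha' : μ ≫ p₀ ≫ a₀ = a') {m₀ : T ⟶ A₀} {m₁ : T ⟶ A₁} {m' : T ⟶ A'} (h₀ : m₀ ≫ a₀ = k) (h₁ : m₁ ≫ a₁ = k)
    (h' : m' ≫ a' = k) (e₀ : m' ≫ μ ≫ p₀ = m₀) (e₁ : m' ≫ μ ≫ p₁ = m₁) {O : U.Opens} (hO : IsAffineOpen O) :
    secRange m' a' h' O ≤ secRange m₀ a₀ h₀ O ⊔ secRange m₁ a₁ h₁ O := by
  subst ha'
  set R := secRange m₀ a₀ h₀ O ⊔ secRange m₁ a₁ h₁ O
  have hUY : p₀ ⁻¹ᵁ (a₀ ⁻¹ᵁ O) = p₀ ⁻¹ᵁ (a₀ ⁻¹ᵁ O) ⊓ p₁ ⁻¹ᵁ (a₁ ⁻¹ᵁ O) := by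
    rw [← Scheme.Hom.comp_preimage, ← Scheme.Hom.comp_preimage p₁, H.w, inf_idem]
  have hp : IsAffineOpen (p₀ ⁻¹ᵁ (a₀ ⁻¹ᵁ O)) := by
    haveI : IsAffineHom p₀ := MorphismProperty.of_isPullback H.flip ‹IsAffineHom a₁›
    exact (hO.preimage a₀).preimage p₀
  haveI := isIso_pushoutSection_of_isAffineOpen H (hUST := (le_refl _)) (hUSX := (le_refl _)) hUY
    hO (hO.preimage a₁) (hO.preimage a₀)
  have po := (isIso_pushoutSection_iff H (hUST := (le_refl _)) (hUSX := (le_refl _)) hUY).1 this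
  let ψ : Γ(P, p₀ ⁻¹ᵁ (a₀ ⁻¹ᵁ O)) ⟶ Γ(T, k ⁻¹ᵁ O) :=
    μ.appLE _ ((μ ≫ p₀ ≫ a₀) ⁻¹ᵁ O) (by simp only [Scheme.Hom.comp_preimage]; exact le_rfl) ≫ sec m' _ h' O
  have hψ₀ : p₀.appLE (a₀ ⁻¹ᵁ O) (p₀ ⁻¹ᵁ (a₀ ⁻¹ᵁ O)) le_rfl ≫ ψ = sec m₀ a₀ h₀ O := by
    subst e₀
    simp only [ψ, sec, Scheme.Hom.appLE_comp_appLE, Category.assoc]
  have hψ₁ : p₁.appLE (a₁ ⁻¹ᵁ O) (p₀ ⁻¹ᵁ (a₀ ⁻¹ᵁ O)) (hUY.le.trans inf_le_right) ≫ ψ = sec m₁ a₁ h₁ O := by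
    subst e₁
    simp only [ψ, sec, Scheme.Hom.appLE_comp_appLE, Category.assoc]
  let r₀ : Γ(A₀, a₀ ⁻¹ᵁ O) ⟶ CommRingCat.of R := CommRingCat.ofHom
    ((sec m₀ a₀ h₀ O).hom.codRestrict R fun s => (le_sup_left : secRange m₀ a₀ h₀ O ≤ R) ⟨s, rfl⟩)
  let r₁ : Γ(A₁, a₁ ⁻¹ᵁ O) ⟶ CommRingCat.of R := CommRingCat.ofHom
    ((sec m₁ a₁ h₁ O).hom.codRestrict R fun s => (le_sup_right : secRange m₁ a₁ h₁ O ≤ R) ⟨s, rfl⟩)
  let inc : CommRingCat.of R ⟶ Γ(T, k ⁻¹ᵁ O) := CommRingCat.ofHom R.subtype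
  have hinc : Function.Injective inc := Subtype.coe_injective
  have hr₀ : r₀ ≫ inc = sec m₀ a₀ h₀ O := rfl
  have hr₁ : r₁ ≫ inc = sec m₁ a₁ h₁ O := rfl
  haveI : Mono inc := ConcreteCategory.mono_of_injective inc hinc
  have hlift : ∀ x, ψ x ∈ R := fun x => by
    have key : ψ = po.desc r₀ r₁ (by
        rw [← cancel_mono inc, Category.assoc, Category.assoc, hr₀, hr₁, ← hψ₀, ← hψ₁]
        exact po.w_assoc ψ) ≫ inc := by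
      refine po.hom_ext ?_ ?_
      · rw [IsPushout.inl_desc_assoc, hr₀]
        exact hψ₀
      · rw [IsPushout.inr_desc_assoc, hr₁]
        exact hψ₁
    rw [key]
    exact ((po.desc r₀ r₁ _ x : CommRingCat.of R) : R).2
  rintro _ ⟨s, rfl⟩
  obtain ⟨x, hx⟩ : ∃ x, μ.appLE (p₀ ⁻¹ᵁ (a₀ ⁻¹ᵁ O)) ((μ ≫ p₀ ≫ a₀) ⁻¹ᵁ O)
      (by simp only [Scheme.Hom.comp_preimage]; exact le_rfl) x = s := by
    obtain ⟨x, hx⟩ := μ.app_surjective _ hp s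
    exact ⟨x, (congr($((Scheme.Hom.app_eq_appLE μ).symm) x)).trans hx⟩
  rw [← hx]
  exact hlift x

end Groth.Agent.AlgSpDec.RelNorm
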