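import Groth.Agent.AlgSpDec.RelNorm.EtaleStable

/-!
# Normalization over a disjoint union of affine schemes etale over a space
-/

set_option autoImplicit false
set_option backward.isDefEq.respectTransparency false
set_option backward.isDefEq.respectTransparency.types false

universe u

open CategoryTheory CategoryTheory.Limits AlgebraicGeometry AlgSp Groth.Agent.AlgSpLib Groth.Agent.AlgSpPts

namespace Groth.Agent.AlgSpDec.RelNorm

variable {S : Scheme.{u}} {X Y : Sp S} {f : Y ⟶ X}

theorem isPullback_sigmaι {ι : Type u} {A B : ι → Over S} (φ : ∀ i, A i ⟶ B i) (Φ : sigmaOver A ⟶ sigmaOver B)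
    (hΦ : ∀ i, sigmaι A i ≫ Φ = φ i ≫ sigmaι B i) (i : ι) :
    IsPullback (sigmaι A i) (φ i) Φ (sigmaι B i) := by
  refine IsPullback.of_map (Over.forget S) (hΦ i) (IsOpenImmersion.isPullback (φ i).left (sigmaι A i).left (sigmaι B i).left Φ.left ?_ ?_).flip
  · exact congrArg (fun e : A i ⟶ sigmaOver B => e.left) (hΦ i)
  · refine TopologicalSpace.Opens.ext (Set.ext fun z => ⟨?_, ?_⟩)
    · rintro ⟨v, hv⟩
      obtain ⟨j, a, rfl⟩ := exists_sigmaι A z
      have e : Φ.left ((sigmaι A j).left a) = (sigmaι B j).left ((φ j).left a) := by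
        rw [← Scheme.Hom.comp_apply, ← Over.comp_left, hΦ, Over.comp_left, Scheme.Hom.comp_apply]
      obtain rfl := sigmaι_injective B (hv.trans e)
      exact ⟨a, rfl⟩
    · rintro ⟨a, rfl⟩
      refine ⟨(φ i).left a, ?_⟩
      show (sigmaι B i).left ((φ i).left a) = Φ.left ((sigmaι A i).left a)
      rw [← Scheme.Hom.comp_apply, ← Scheme.Hom.comp_apply, ← Over.comp_left, ← Over.comp_left, hΦ]

theorem exists_sigma_normalization (hX : IsAlgSpace X) (hY : IsAlgSpace Y) (hqc : IsQuasiCompactMor f)
    (hqs : IsQuasiSeparatedMor f) {ι : Type u} (O : ι → Over S) [∀ i, IsAffine (O i).left]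
    (bσ : (yon S).obj (sigmaOver O) ⟶ X) :
    ∃ (N : Over S) (ν : N ⟶ sigmaOver O) (g : pullback f bσ ⟶ (yon S).obj N)
      (hfac : g ≫ (yon S).map ν = pullback.snd f bσ), IsIntegralHom ν.left ∧
        ∀ (V : Over S) (e : V ⟶ sigmaOver O), Etale e.left → BC hfac ((yon S).map e) := by
  let U := sigmaOver O
  let P := pullback f bσ
  have hP : IsAlgSpace P := isAlgSpace_pullback hY (IsAlgSpace.yon_obj U) hX f bσ
  let b : ∀ i, (yon S).obj (O i) ⟶ X := fun i => (yon S).map (sigmaι O i) ≫ bσ
  let Pi : ι → Sp S := fun i => pullback f (b i)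
  have hPi : ∀ i, IsAlgSpace (Pi i) := fun i => isAlgSpace_pullback hY (IsAlgSpace.yon_obj _) hX f (b i)
  have hc : ∀ i, IsQuasiCompactSp (Pi i) := fun i =>
    hqc (IsAlgSpace.yon_obj _) (isQuasiCompactSp_yon (O i)) (b i) _ _ (IsPullback.of_hasPullback f (b i))
  have key : ∀ i, ∃ (Ni : Over S) (νi : Ni ⟶ O i) (gi : Pi i ⟶ (yon S).obj Ni)
      (hfac : gi ≫ (yon S).map νi = pullback.snd f (b i)), IsAffine Ni.left ∧ IsIntegralHom νi.left ∧
        ∀ (O' : Over S), IsAffine O'.left → ∀ e : O' ⟶ O i, Etale e.left → BC hfac ((yon S).map e) :=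
    fun i => exists_affine_normalization (hPi i) _ (hc i)
      (isQuasiSeparatedMor_of_isPullback (IsPullback.of_hasPullback f (b i)) hqs)
  choose Ni νi gi hfi hNi hνi hBC using key
  let N := sigmaOver Ni
  let ν : N ⟶ U := Over.homMk (Sigma.desc fun i => (νi i ≫ sigmaι O i).left) (by
    apply Sigma.hom_ext
    intro i
    change Sigma.ι _ i ≫ Sigma.desc _ ≫ _ = Sigma.ι _ i ≫ Sigma.desc _
    rw [Sigma.ι_desc_assoc, Sigma.ι_desc]
    exact Over.w (νi i ≫ sigmaι O i))
  have hν : ∀ i, sigmaι Ni i ≫ ν = νi i ≫ sigmaι O i := fun i => Over.OverMorphism.ext (Sigma.ι_desc _ i)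
  have sqν : ∀ i, IsPullback (sigmaι Ni i) (νi i) ν (sigmaι O i) := isPullback_sigmaι νi ν hν
  haveI hνint : IsIntegralHom ν.left := by
    rw [IsZariskiLocalAtTarget.iff_of_openCover (P := @IsIntegralHom) (sigmaOpenCover fun i => (O i).left)]
    intro i
    have sq := (sqν i).map (Over.forget S)
    show IsIntegralHom (pullback.snd ν.left ((sigmaι O i).left))
    exact (MorphismProperty.cancel_left_of_respectsIso @IsIntegralHom sq.isoPullback.hom _).1 (by
      show IsIntegralHom (sq.isoPullback.hom ≫ pullback.snd ((Over.forget S).map ν) ((Over.forget S).map (sigmaι O i)))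
      rw [sq.isoPullback_hom_snd]
      exact hνi i)
  -- the map from the pullback
  let m : ∀ i, Pi i ⟶ P := fun i => pullback.lift (pullback.fst f (b i))
    (pullback.snd f (b i) ≫ (yon S).map (sigmaι O i)) (by rw [Category.assoc]; exact pullback.condition)
  have hm : ∀ i, IsPullback (m i) (pullback.snd f (b i)) (pullback.snd f bσ) ((yon S).map (sigmaι O i)) :=
    fun i => isPullback_bc f bσ ((yon S).map (sigmaι O i))
  choose Ti ai hTa hTe hTs using fun i => exists_affine_atlas (hc i)
  have hai : ∀ i, RepWith @Etale (ai i ≫ m i) := fun i => repWith_comp (hTe i)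
    (repWith_of_isPullback (hm i).flip ((repWith_yon_map_iff @Etale _).2 inferInstance))
  have has : ∀ p, ∃ i v, Points.ofPt (ai i ≫ m i) v = p := fun p => by
    obtain ⟨u, hu⟩ := (Points.schemeEquiv U).surjective (Points.map (pullback.snd f bσ) p)
    obtain ⟨i, v, rfl⟩ := exists_sigmaι O u
    obtain ⟨z, hz, -⟩ := exists_point_of_isPullback (hm i) (x := p) (y := Points.ofScheme (O i) v)
      (by rw [← Points.ofPt_eq_map_ofScheme, ← hu, ← Category.comp_id ((yon S).map (sigmaι O i)), ofPt_comp]; rfl)
    obtain ⟨t, rfl⟩ := surjective_ofPt (hTs i) z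
    exact ⟨i, t, by rw [← Points.map_ofPt, hz]⟩
  obtain ⟨g, hg⟩ := exists_glue hP (fun i => ai i ≫ m i) hai has (fun i => ai i ≫ gi i ≫ (yon S).map (sigmaι Ni i))
    (by
      intro i j T x y hxy
      obtain ⟨x', hx'⟩ := (yon S).map_surjective ((yon S).map x ≫ ai i ≫ pullback.snd f (b i))
      obtain ⟨y', hy'⟩ := (yon S).map_surjective ((yon S).map y ≫ ai j ≫ pullback.snd f (b j))
      have hxy' : x' ≫ sigmaι O i = y' ≫ sigmaι O j := (yon S).map_injective (by
        rw [Functor.map_comp, Functor.map_comp, hx', hy']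
        have := hxy =≫ pullback.snd f bσ
        simpa only [m, Category.assoc, pullback.lift_snd] using this)
      by_cases h : i = j
      · subst h
        have : Mono (sigmaι O i) := (Over.forget S).mono_of_mono_map
          (inferInstanceAs (Mono (sigmaι O i).left))
        have e : (yon S).map x ≫ ai i = (yon S).map y ≫ ai i := by
          refine (hm i).hom_ext (by simpa only [Category.assoc] using hxy) ?_
          rw [Category.assoc, Category.assoc, ← hx', ← hy', (cancel_mono (sigmaι O i)).1 hxy']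
        rw [reassoc_of% e]
      · have : IsEmpty ↥T.left := ⟨fun z => h (sigmaι_injective O (v := x'.left z) (w := y'.left z) (by
          rw [← Scheme.Hom.comp_apply, ← Scheme.Hom.comp_apply, ← Over.comp_left, ← Over.comp_left, hxy']))⟩
        exact hom_ext_of_isEmpty _ _)
  have hg' : ∀ i, m i ≫ g = gi i ≫ (yon S).map (sigmaι Ni i) := fun i => by
    have : Epi (ai i) := epi_of_etale_surjective (hTe i) (hTs i)
    rw [← cancel_epi (ai i), ← Category.assoc, hg]
  have hfac : g ≫ (yon S).map ν = pullback.snd f bσ := hom_ext_of_family hP _ hai has fun i => by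
    rw [← Category.assoc, hg]
    simp only [m, Category.assoc, pullback.lift_snd, ← Functor.map_comp, hν]
    rw [Functor.map_comp, reassoc_of% hfi i]
  refine ⟨N, ν, g, hfac, hνint, fun V e he => ?_⟩
  have h := bc_of_cover (IsAlgSpace.yon_obj U) hP ((repWith_yon_map_iff @IsIntegralHom ν).2 hνint) hfac
    (𝟙 ((yon S).obj U)) (sigmaι O) (exists_sigmaι O) (fun i W hW e' he' => ?_) e he
  · rwa [Category.comp_id] at h
  · rw [Category.comp_id, Functor.map_comp]
    refine BC.compose ?_
    have sN := (sqν i).map (yon S)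
    have sW := IsPullback.of_hasPullback (pullback.snd f (b i)) ((yon S).map e')
    have h1 := hBC i W hW e' he'
    let eP := (hm i).isoPullback
    let eN := sN.isoPullback
    refine BC.mk_of_squares _ (a := pullback.fst (pullback.snd f (b i)) ((yon S).map e') ≫ eP.hom) ?_
      (a' := pullback.fst ((yon S).map (νi i)) ((yon S).map e') ≫ eN.hom) ?_ ?_ h1
    · exact sW.paste_horiz (IsPullback.of_horiz_isIso ⟨(hm i).isoPullback_hom_snd.trans (Category.comp_id _).symm⟩)
        |> fun s => by simpa using s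
    · exact (IsPullback.of_hasPullback ((yon S).map (νi i)) ((yon S).map e')).paste_horiz
        (IsPullback.of_horiz_isIso ⟨sN.isoPullback_hom_snd.trans (Category.comp_id _).symm⟩)
        |> fun s => by simpa using s
    · rw [reassoc_of% bcMap_fst (hfi i) ((yon S).map e'), Category.assoc]
      congr 1
      refine pullback.hom_ext ?_ ?_
      · rw [Category.assoc, Category.assoc, sN.isoPullback_hom_fst, bcMap_fst, (hm i).isoPullback_hom_fst_assoc, hg']
      · rw [Category.assoc, Category.assoc, sN.isoPullback_hom_snd, bcMap_snd, (hm i).isoPullback_hom_snd, hfi]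

end Groth.Agent.AlgSpDec.RelNorm
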