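import Groth.Agent.AlgSpDec.RelNorm.Stable
import Groth.Agent.AlgSpLib.SmoothLocalInst

/-!
# Relative normalization commutes with smooth base change
-/

set_option autoImplicit false
set_option backward.isDefEq.respectTransparency false
set_option backward.isDefEq.respectTransparency.types false

universe u

open CategoryTheory CategoryTheory.Limits AlgebraicGeometry AlgSp Groth.Agent.AlgSpLib Groth.Agent.AlgSpPts

namespace Groth.Agent.AlgSpDec.RelNorm

variable {S : Scheme.{u}} {X Y X' : Sp S} {f : Y ⟶ X} {ν : X' ⟶ X} {f' : Y ⟶ X'}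

/-- Two normalizations of the same morphism have the same base changes. -/
theorem bc_of_bc (hX' : IsAlgSpace X') {G : Sp S} (hG : IsAlgSpace G) {νG : G ⟶ X} {gG : Y ⟶ G}
    (h : IsRelNormalization f ν f') (hG' : IsRelNormalization f νG gG) {V : Sp S} {b : V ⟶ X}
    (hb : BC hG'.1 b) : BC h.1 b := by
  obtain ⟨k, ⟨hk₁, hk₂⟩, -⟩ := h.2.2 hG νG gG hG'.2.1 hG'.1
  obtain ⟨l, ⟨hl₁, hl₂⟩, -⟩ := hG'.2.2 hX' ν f' h.2.1 h.1
  let e : G ≅ X' :=
    { hom := l
      inv := k
      hom_inv_id := (hG'.2.2 hG νG gG hG'.2.1 hG'.1).unique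
        ⟨by rw [reassoc_of% hl₁, hk₁], by rw [Category.assoc, hk₂, hl₂]⟩ ⟨Category.comp_id _, Category.id_comp _⟩
      inv_hom_id := (h.2.2 hX' ν f' h.2.1 h.1).unique
        ⟨by rw [reassoc_of% hk₁, hl₁], by rw [Category.assoc, hl₂, hk₂]⟩ ⟨Category.comp_id _, Category.id_comp _⟩ }
  refine BC.mk_of_squares h.1 (IsPullback.of_hasPullback f b) (a' := pullback.fst νG b ≫ e.hom) ?_ ?_ hb
  · exact (IsPullback.of_hasPullback νG b).of_iso (Iso.refl _) e (Iso.refl _) (Iso.refl _) (by simp) (by simp)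
      (by simp [e, hl₂]) (by simp)
  · rw [reassoc_of% bcMap_fst hG'.1 b]
    exact congrArg (pullback.fst f b ≫ ·) hl₁

theorem bc_of_smooth_affine (hX : IsAlgSpace X) (hY : IsAlgSpace Y) (hX' : IsAlgSpace X') (hqc : IsQuasiCompactMor f)
    (hqs : IsQuasiSeparatedMor f) (h : IsRelNormalization f ν f') {O O' : Over S} (hO : IsAffine O.left)
    (hO' : IsAffine O'.left) (b : (yon S).obj O ⟶ X) (hb : RepWith @Etale b) (e : O' ⟶ O) (he : Smooth e.left) :
    BC h.1 ((yon S).map e ≫ b) := by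
  have : IsAffine O.left := hO
  have hP : IsAlgSpace (pullback f b) := isAlgSpace_pullback hY (IsAlgSpace.yon_obj O) hX f b
  obtain ⟨N, ν₀, g, hfac, hN, hνi, hBC⟩ := exists_affine_normalization_smooth hP (pullback.snd f b)
    (hqc (IsAlgSpace.yon_obj _) (isQuasiCompactSp_yon O) b _ _ (IsPullback.of_hasPullback f b))
    (isQuasiSeparatedMor_of_isPullback (IsPullback.of_hasPullback f b) hqs)
  have h1 := bc_of_scheme hX hY hX' hqc hqs h b hb
  have h₀ : IsRelNormalization (pullback.snd f b) ((yon S).map ν₀) g := by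
    have hid := hBC O hO (𝟙 O) (by rw [Over.id_left]; infer_instance)
    refine hid.of_squares (a := 𝟙 _) (a' := 𝟙 _) ?_ ?_ hfac (by simp)
    · exact IsPullback.of_horiz_isIso ⟨by simp⟩
    · exact IsPullback.of_horiz_isIso ⟨by simp⟩
  exact BC.compose (bc_of_bc (isAlgSpace_pullback hX' (IsAlgSpace.yon_obj O) hX ν b) (IsAlgSpace.yon_obj N) h1 h₀
    (hBC O' hO' e he))

/-- Relative normalization commutes with smooth base change. -/
theorem bc_of_smooth (hX : IsAlgSpace X) (hY : IsAlgSpace Y) (hX' : IsAlgSpace X') (hqc : IsQuasiCompactMor f)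
    (hqs : IsQuasiSeparatedMor f) (h : IsRelNormalization f ν f') {W : Sp S} (hW : IsAlgSpace W)
    (w : W ⟶ X) (hw : LocP @Smooth w) : BC h.1 w := by
  obtain ⟨U, V, a, b, k, ha, has, hb, -, hk⟩ := exists_chart hW hX w
  have : Smooth k.left := hw a b k ha hb hk
  let κ := Σ Q : V.left.affineOpens, {P : U.left.affineOpens // P.1 ≤ k.left ⁻¹ᵁ Q.1}
  let A : κ → Over S := fun i => Over.mk (i.2.1.1.ι ≫ U.hom)
  let O : κ → Over S := fun i => Over.mk (i.1.1.ι ≫ V.hom)
  let jA : ∀ i, A i ⟶ U := fun i => CategoryTheory.Over.homMk i.2.1.1.ι rfl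
  let jO : ∀ i, O i ⟶ V := fun i => CategoryTheory.Over.homMk i.1.1.ι rfl
  let e : ∀ i, A i ⟶ O i := fun i => CategoryTheory.Over.homMk (k.left.resLE i.1.1 i.2.1.1 i.2.2) (by
    show k.left.resLE i.1.1 i.2.1.1 i.2.2 ≫ i.1.1.ι ≫ V.hom = i.2.1.1.ι ≫ U.hom
    rw [Scheme.Hom.resLE_comp_ι_assoc, Over.w k])
  have hej : ∀ i, e i ≫ jO i = jA i ≫ k := fun i => Over.OverMorphism.ext (Scheme.Hom.resLE_comp_ι _ _)
  let c : ∀ i, (yon S).obj (A i) ⟶ W := fun i => (yon S).map (jA i) ≫ a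
  have hce : ∀ i, RepWith @Etale (c i) := fun i =>
    repWith_comp ((repWith_yon_map_iff @Etale _).2 (inferInstanceAs (Etale i.2.1.1.ι))) ha
  have hcw : ∀ i, c i ≫ w = (yon S).map (e i) ≫ (yon S).map (jO i) ≫ b := fun i => by
    rw [Category.assoc, hk, ← Functor.map_comp_assoc, ← hej, Functor.map_comp_assoc]
  have hcs : ∀ p : Points W, ∃ i v, Points.ofPt (c i) v = p := fun p => by
    obtain ⟨x, rfl⟩ := surjective_ofPt has p
    obtain ⟨Q, hQ, hxQ, -⟩ := exists_isAffineOpen_mem_and_subset (U := (⊤ : V.left.Opens)) (x := k.left x) trivial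
    obtain ⟨P, hP, hxP, hPQ⟩ := exists_isAffineOpen_mem_and_subset (U := k.left ⁻¹ᵁ Q) (x := x) hxQ
    exact ⟨⟨⟨Q, hQ⟩, ⟨P, hP⟩, hPQ⟩, ⟨x, hxP⟩, ofPt_comp _ _ _⟩
  -- affine schemes smooth over a member of the family
  have key : ∀ i (T : Over S), IsAffine T.left → ∀ (t : T ⟶ A i), Etale t.left →
      BC h.1 ((yon S).map t ≫ c i ≫ w) := fun i T hT t ht => by
    rw [hcw, ← Category.assoc, ← Functor.map_comp]
    refine bc_of_smooth_affine hX hY hX' hqc hqs h (O := O i) i.1.2 hT _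
      (repWith_comp ((repWith_yon_map_iff @Etale _).2 (inferInstanceAs (Etale i.1.1.ι))) hb) _ ?_
    have : Etale t.left := ht
    have : Smooth (e i).left := inferInstanceAs (Smooth (k.left.resLE i.1.1 i.2.1.1 i.2.2))
    rw [Over.comp_left]
    infer_instance
  have hν' : RepWith @IsIntegralHom (pullback.snd ν w) := repWith_snd w (isIntegralMor_iff_repWith.1 h.2.1)
  refine isRelNormalization_of_family hW (isAlgSpace_pullback hY hW hX f w) hν' (bcMap_snd h.1 w) c hce hcs
    (fun i => BC.restrict (by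
      have := key i (A i) i.2.1.2 (𝟙 _) (by rw [Over.id_left]; infer_instance)
      simpa using this)) fun i j => ?_
  obtain ⟨fst, hfst⟩ := (yon S).map_surjective ((hce i).rep.fst (c j))
  have hfe : Etale fst.left := (repWith_yon_map_iff @Etale _).1 (by
    rw [hfst]; exact repWith_of_isPullback ((hce i).rep.isPullback _).flip (hce j))
  rw [← hfst]
  let R := (hce i).rep.pullback (c j)
  let B : R.left.affineOpens → Over S := fun Q => Over.mk (Q.1.ι ≫ R.hom)
  let jB : ∀ Q, B Q ⟶ R := fun Q => CategoryTheory.Over.homMk Q.1.ι rfl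
  refine uniqAt_of_family hW hν' (bcMap_snd h.1 w) (IsAlgSpace.yon_obj R) _ (fun Q => (yon S).map (jB Q))
    (fun Q => (repWith_yon_map_iff @Etale _).2 (inferInstanceAs (Etale Q.1.ι))) (fun p => ?_) fun Q => ?_
  · obtain ⟨v, rfl⟩ := (Points.schemeEquiv _).surjective p
    obtain ⟨Q, hQ, hvQ, -⟩ := exists_isAffineOpen_mem_and_subset (U := (⊤ : R.left.Opens)) (x := v) trivial
    refine ⟨⟨Q, hQ⟩, ⟨v, hvQ⟩, ?_⟩
    rw [← Category.comp_id ((yon S).map (jB ⟨Q, hQ⟩)), ofPt_comp]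
    rfl
  · refine (BC.restrict ?_).uniqAt
    have : Etale fst.left := hfe
    have := key i (B Q) Q.2 (jB Q ≫ fst) (by
      rw [Over.comp_left]
      exact inferInstanceAs (Etale (Q.1.ι ≫ fst.left)))
    simpa only [Functor.map_comp, Category.assoc] using this

end Groth.Agent.AlgSpDec.RelNorm
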