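import Groth.Agent.AlgSpDec.RelNorm.BaseChange
import Groth.Agent.AlgSpDec.RelNorm.GlueHom
import Groth.Agent.AlgSpPts.Univ
import Groth.Agent.AlgSpPts.Sep

/-!
# Finite clopen pieces of the source split off the relative normalization
-/

set_option autoImplicit false
set_option backward.isDefEq.respectTransparency false
set_option backward.isDefEq.respectTransparency.types false

universe u

open CategoryTheory CategoryTheory.Limits AlgebraicGeometry AlgSp Groth.Agent.AlgSpLib Groth.Agent.AlgSpPts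

namespace Groth.Agent.AlgSpDec.RelNorm

variable {S : Scheme.{u}}

/-- A clopen piece of `P` which is finite over `T` maps isomorphically onto an open piece of the
normalization of `T` in `P`. -/
theorem exists_openImmersion_of_clopen {T N Q : Over S} {P : Sp S} (hP : IsAlgSpace P)
    {sn : P ⟶ (yon S).obj T} {ν : N ⟶ T} {g₀ : P ⟶ (yon S).obj N}
    (hn : IsRelNormalization sn ((yon S).map ν) g₀) {w : (yon S).obj Q ⟶ P} (hw : RepWith @IsOpenImmersion w)
    (hwc : RepWith @IsClosedImmersion w) {q : Q ⟶ T} [IsFinite q.left] (hq : w ≫ sn = (yon S).map q) :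
    ∃ φ : Q ⟶ N, IsOpenImmersion φ.left ∧ IsPullback w (𝟙 _) g₀ ((yon S).map φ) := by
  obtain ⟨φ, hφ⟩ := (yon S).map_surjective (w ≫ g₀)
  have hφν : φ ≫ ν = q := (yon S).map_injective (by rw [Functor.map_comp, hφ, Category.assoc, hn.1, hq])
  have : IsIntegralHom ν.left := (repWith_yon_map_iff _ ν).1 (isIntegralMor_iff_repWith.1 hn.2.1)
  let Z : Over S := Over.mk (coprod.desc Q.hom N.hom)
  let inl : Q ⟶ Z := CategoryTheory.Over.homMk coprod.inl (coprod.inl_desc _ _)
  let inr : N ⟶ Z := CategoryTheory.Over.homMk coprod.inr (coprod.inr_desc _ _)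
  let π : Z ⟶ T := CategoryTheory.Over.homMk (coprod.desc q.left ν.left) (coprod.hom_ext
    (by simp [Z]) (by simp [Z]))
  let c : Z ⟶ N := CategoryTheory.Over.homMk (coprod.desc φ.left (𝟙 _)) (coprod.hom_ext
    (by simp [Z]) (by simp [Z]))
  have hπ : IsIntegralMor ((yon S).map π) := isIntegralMor_iff_repWith.2
    ((repWith_yon_map_iff _ π).2 (inferInstanceAs (IsIntegralHom (coprod.desc q.left ν.left))))
  have hlπ : inl ≫ π = q := by ext1; exact coprod.inl_desc _ _
  have hrπ : inr ≫ π = ν := by ext1; exact coprod.inr_desc _ _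
  have hlc : inl ≫ c = φ := by ext1; exact coprod.inl_desc _ _
  have hrc : inr ≫ c = 𝟙 N := by ext1; exact coprod.inr_desc _ _
  obtain ⟨U, a, ha, has⟩ := hP.atlas
  let r := hwc.rep.snd a
  have : IsClosedImmersion r.left := hwc.property_snd a
  let O : U.left.Opens := ⟨(Set.range r.left)ᶜ, r.left.isClosedEmbedding.isClosed_range.isOpen_compl⟩
  let U₂ : Over S := Over.mk (O.ι ≫ U.hom)
  let o : U₂ ⟶ U := CategoryTheory.Over.homMk O.ι rfl
  let a₂ : (yon S).obj U₂ ⟶ P := (yon S).map o ≫ a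
  have hmeet : ∀ u : ↥U.left, Points.ofPt a u ∈ Set.range (Points.ofPt w) → u ∈ Set.range r.left := by
    rintro u ⟨v, hv⟩
    obtain ⟨z, -, hz⟩ := exists_lift (hwc.rep.isPullback a) (x := Points.ofScheme Q v) (t := u)
      (by rw [← Points.ofPt_eq_map_ofScheme]; exact hv)
    exact ⟨z, hz⟩
  have : Mono w := mono_of_repWith (repWith_mono (fun _ _ e (_ : IsOpenImmersion e) => (inferInstance : Mono e)) _ hw)
  have hdisj : ∀ ⦃X : Over S⦄ (x : X ⟶ Q) (y : X ⟶ U₂), (yon S).map x ≫ w = (yon S).map y ≫ a₂ →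
      IsEmpty ↥X.left := fun X x y h => ⟨fun t => by
    have h1 := congrArg (fun e => Points.ofPt e t) h
    simp only [a₂, ofPt_comp] at h1
    exact (y.left t).2 (hmeet _ ⟨_, h1⟩)⟩
  let A : ULift.{u} Bool → Over S := fun b => bif b.down then Q else U₂
  let aI : ∀ i, (yon S).obj (A i) ⟶ P := fun b => match b with | ⟨true⟩ => w | ⟨false⟩ => a₂
  let kI : ∀ i, (yon S).obj (A i) ⟶ (yon S).obj Z := fun b => match b with
    | ⟨true⟩ => (yon S).map inl
    | ⟨false⟩ => a₂ ≫ g₀ ≫ (yon S).map inr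
  have haI : ∀ i, RepWith @Etale (aI i) := fun b => match b with
    | ⟨true⟩ => repWith_mono (fun _ _ e (_ : IsOpenImmersion e) => (inferInstance : Etale e)) _ hw
    | ⟨false⟩ => repWith_comp ((repWith_yon_map_iff @Etale _).2 (inferInstanceAs (Etale O.ι))) ha
  have hsI : ∀ p : Points P, ∃ i v, Points.ofPt (aI i) v = p := fun p => by
    obtain ⟨u, rfl⟩ := surjective_ofPt has p
    by_cases h : u ∈ Set.range r.left
    · obtain ⟨z, rfl⟩ := h
      exact ⟨⟨true⟩, (hwc.rep.fst' a).left z, by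
        show Points.ofPt w _ = _
        rw [← ofPt_comp, (hwc.rep.isPullback' a).w, ofPt_comp]⟩
    · exact ⟨⟨false⟩, ⟨u, h⟩, by show Points.ofPt ((yon S).map o ≫ a) _ = _; rw [ofPt_comp]; rfl⟩
  have hext : ∀ ⦃X : Over S⦄ [IsEmpty ↥X.left] (u v : (yon S).obj X ⟶ (yon S).obj Z), u = v := fun X _ u v => by
    obtain ⟨u, rfl⟩ := (yon S).map_surjective u
    obtain ⟨v, rfl⟩ := (yon S).map_surjective v
    congr 1
    ext1
    exact isInitialOfIsEmpty.hom_ext _ _
  obtain ⟨g, hg⟩ := exists_glue hP aI haI hsI kI (by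
    rintro ⟨_ | _⟩ ⟨_ | _⟩ X x y h
    · have h' : (yon S).map x ≫ a₂ = (yon S).map y ≫ a₂ := h
      show (yon S).map x ≫ a₂ ≫ _ = (yon S).map y ≫ a₂ ≫ _
      exact (Category.assoc _ _ _).symm.trans ((congrArg (· ≫ g₀ ≫ (yon S).map inr) h').trans (Category.assoc _ _ _))
    · have h' : (yon S).map y ≫ w = (yon S).map x ≫ a₂ := h.symm
      have := hdisj y x h'; exact hext _ _
    · have h' : (yon S).map x ≫ w = (yon S).map y ≫ a₂ := h
      have := hdisj x y h'; exact hext _ _
    · exact congrArg (· ≫ _) ((cancel_mono w).1 h))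
  have hgQ : w ≫ g = (yon S).map inl := hg ⟨true⟩
  have hgU : a₂ ≫ g = a₂ ≫ g₀ ≫ (yon S).map inr := hg ⟨false⟩
  have hgπ : g ≫ (yon S).map π = sn := hom_ext_of_family hP aI haI hsI fun b => match b with
      | ⟨true⟩ => by show w ≫ _ = w ≫ _; rw [reassoc_of% hgQ, ← Functor.map_comp, hlπ, hq]
      | ⟨false⟩ => by show a₂ ≫ _ = a₂ ≫ _; rw [reassoc_of% hgU, ← Functor.map_comp, hrπ, hn.1]
  obtain ⟨b, ⟨hb₁, hb₂⟩, -⟩ := hn.2.2 (IsAlgSpace.yon_obj Z) _ g hπ hgπ
  have hgc : g ≫ (yon S).map c = g₀ := hom_ext_of_family hP aI haI hsI fun b => match b with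
      | ⟨true⟩ => by show w ≫ _ = w ≫ _; rw [reassoc_of% hgQ, ← Functor.map_comp, hlc, hφ]
      | ⟨false⟩ => by
        show a₂ ≫ _ = a₂ ≫ _
        rw [reassoc_of% hgU, ← Functor.map_comp, hrc, CategoryTheory.Functor.map_id, Category.comp_id]
  have hcπ : c ≫ ν = π := by
    ext1
    exact coprod.hom_ext (by simp [c, π, Z, ← hφν]) (by simp [c, π, Z])
  have hbc : b ≫ (yon S).map c = 𝟙 _ :=
    (hn.2.2 (IsAlgSpace.yon_obj N) _ g₀ hn.2.1 hn.1).unique
      ⟨by rw [reassoc_of% hb₁, hgc], by rw [Category.assoc, ← Functor.map_comp, hcπ, hb₂]⟩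
      ⟨Category.comp_id _, Category.id_comp _⟩
  obtain ⟨b, rfl⟩ := (yon S).map_surjective b
  have hbc' : b ≫ c = 𝟙 N := (yon S).map_injective (by rw [Functor.map_comp, hbc, CategoryTheory.Functor.map_id])
  have hφb : φ ≫ b = inl := (yon S).map_injective (by rw [Functor.map_comp, hφ, Category.assoc, hb₁, hgQ])
  have key : IsPullback φ (𝟙 Q) b inl := by
    refine IsPullback.of_isLimit' ⟨by rw [hφb, Category.id_comp]⟩ (PullbackCone.IsLimit.mk _ (fun s => s.snd)
      (fun s => ?_) (fun s => Category.comp_id _) fun s m _ hm => (Category.comp_id m).symm.trans hm)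
    rw [← hlc, ← Category.assoc, ← s.condition, Category.assoc, hbc', Category.comp_id]
  have : IsOpenImmersion inl.left := inferInstanceAs (IsOpenImmersion (coprod.inl : Q.left ⟶ Q.left ⨿ N.left))
  have hφo : IsOpenImmersion φ.left := MorphismProperty.of_isPullback (P := @IsOpenImmersion)
    (key.map (Over.forget S)).flip this
  refine ⟨φ, hφo, IsPullback.of_isLimit' ⟨by rw [hφ, Category.id_comp]⟩ (PullbackCone.IsLimit.mk _ (fun s => s.snd)
    (fun s => ?_) (fun s => Category.comp_id _) fun s m _ hm => (Category.comp_id m).symm.trans hm)⟩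
  have hlift : ∀ ⦃X : Over S⦄ (x : (yon S).obj X ⟶ P) (y : X ⟶ Q), x ≫ g = (yon S).map (y ≫ inl) →
      x = (yon S).map y ≫ w := by
    intro X x y hxy
    let e := hw.rep.snd x
    have sq := hw.rep.isPullback' x
    have : IsOpenImmersion e.left := hw.property_snd x
    have : Surjective e.left := ⟨fun t => by
      obtain ⟨⟨_ | _⟩, v, hv⟩ := hsI (Points.ofPt x t)
      · exfalso
        obtain ⟨m, hm⟩ := (yon S).map_surjective (a₂ ≫ g₀)
        have h1 := congrArg (Points.map g) hv
        rw [Points.map_ofPt, Points.map_ofPt, show aI ⟨false⟩ ≫ g = (yon S).map (m ≫ inr) by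
          show a₂ ≫ g = _; rw [hgU, Functor.map_comp, hm]; simp only [a₂, Category.assoc], hxy] at h1
        have h2 := congrArg (Points.toScheme Z) h1
        rw [Points.toScheme_ofPt, Points.toScheme_ofPt] at h2
        exact AlgebraicGeometry.inl_ne_inr Q.left N.left (y.left t) (m.left v) h2.symm
      · obtain ⟨z, -, hz⟩ := exists_lift (hw.rep.isPullback x) (x := Points.ofScheme Q v) (t := t)
          (by rw [← Points.ofPt_eq_map_ofScheme]; exact hv)
        exact ⟨z, hz⟩⟩
    have : IsIso e.left := (isIso_iff_isOpenImmersion_and_surjective _).2 ⟨inferInstance, inferInstance⟩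
    have : IsIso ((Over.forget S).map e) := ‹IsIso e.left›
    have : IsIso e := isIso_of_reflects_iso e (Over.forget S)
    have hz : ((yon S).map (inv e ≫ hw.rep.fst' x)) ≫ w = x := by
      rw [Functor.map_comp, Category.assoc, sq.w, ← Category.assoc, ← Functor.map_comp, IsIso.inv_hom_id,
        CategoryTheory.Functor.map_id, Category.id_comp]
    have h2 : (inv e ≫ hw.rep.fst' x) ≫ inl = y ≫ inl := (yon S).map_injective (by
      rw [← hxy, Functor.map_comp, ← hgQ, ← Category.assoc, hz])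
    have : Mono inl := (Over.forget S).mono_of_mono_map (inferInstanceAs (Mono (coprod.inl : Q.left ⟶ Q.left ⨿ N.left)))
    exact hz.symm.trans (congrArg (fun z => (yon S).map z ≫ w) ((cancel_mono inl).1 h2))
  apply Sheaf.hom_ext
  ext X x
  let t : (yon S).obj X.unop ⟶ s.pt := (J S).uliftYonedaEquiv.{u + 1}.symm x
  obtain ⟨y, hy⟩ := (yon S).map_surjective (t ≫ s.snd)
  have hs : (t ≫ s.fst) ≫ g = (yon S).map (y ≫ inl) := by
    rw [Category.assoc, ← hb₁, ← Category.assoc s.fst, s.condition, Category.assoc, ← Functor.map_comp, hφb,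
      Functor.map_comp, hy, Category.assoc]
  have h1 := hlift _ y hs
  rw [hy, Category.assoc] at h1
  have h2 := congrArg (J S).uliftYonedaEquiv.{u + 1} h1
  rw [GrothendieckTopology.uliftYonedaEquiv_comp, GrothendieckTopology.uliftYonedaEquiv_comp,
    Equiv.apply_symm_apply] at h2
  exact h2.symm

end Groth.Agent.AlgSpDec.RelNorm
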