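import Groth.Agent.AlgSpDec.RelNorm.Descent

/-!
# Relative normalization commutes with etale base change
-/

set_option autoImplicit false
set_option backward.isDefEq.respectTransparency false
set_option backward.isDefEq.respectTransparency.types false

universe u

open CategoryTheory CategoryTheory.Limits AlgebraicGeometry AlgSp Groth.Agent.AlgSpLib Groth.Agent.AlgSpPts

namespace Groth.Agent.AlgSpDec.RelNorm

variable {S : Scheme.{u}} {X Y X' : Sp S} {f : Y ⟶ X} {ν : X' ⟶ X} {f' : Y ⟶ X'}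

theorem bc_of_isAffine (hX : IsAlgSpace X) (hY : IsAlgSpace Y) (hX' : IsAlgSpace X') (hqc : IsQuasiCompactMor f)
    (hqs : IsQuasiSeparatedMor f) (h : IsRelNormalization f ν f') {O : Over S} (hO : IsAffine O.left)
    (b : (yon S).obj O ⟶ X) (hb : RepWith @Etale b) : BC h.1 b := by
  obtain ⟨U₀, a, ha, has⟩ := hX.atlas
  let Of : U₀.left.affineOpens ⊕ PUnit.{u + 1} → Over S := Sum.elim (fun V => Over.mk (V.1.ι ≫ U₀.hom)) fun _ => O
  haveI : ∀ i, IsAffine (Of i).left := fun i => match i with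
    | .inl V => V.2
    | .inr _ => hO
  let bf : ∀ i, (yon S).obj (Of i) ⟶ X := fun i => match i with
    | .inl V => (yon S).map (CategoryTheory.Over.homMk V.1.ι rfl : Over.mk (V.1.ι ≫ U₀.hom) ⟶ U₀) ≫ a
    | .inr _ => b
  have hbf : ∀ i, RepWith @Etale (bf i) := fun i => match i with
    | .inl V => repWith_comp ((repWith_yon_map_iff @Etale _).2 (inferInstanceAs (Etale V.1.ι))) ha
    | .inr _ => hb
  obtain ⟨G, νG, gG, hG, hBC⟩ := exists_descended hX hY hqc hqs Of bf hbf (fun p => by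
    obtain ⟨u, rfl⟩ := surjective_ofPt has p
    obtain ⟨V, hV, huV, -⟩ := exists_isAffineOpen_mem_and_subset (U := (⊤ : U₀.left.Opens)) (x := u) trivial
    exact ⟨.inl ⟨V, hV⟩, ⟨u, huV⟩, ofPt_comp _ _ _⟩)
  have hGa : IsAlgSpace G := isAlgSpace_of_integral (isIntegralMor_iff_repWith.1 hG.2.1) hX
  obtain ⟨k, ⟨hk₁, hk₂⟩, -⟩ := h.2.2 hGa νG gG hG.2.1 hG.1
  obtain ⟨l, ⟨hl₁, hl₂⟩, -⟩ := hG.2.2 hX' ν f' h.2.1 h.1
  let e : G ≅ X' :=
    { hom := l
      inv := k
      hom_inv_id := (hG.2.2 hGa νG gG hG.2.1 hG.1).unique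
        ⟨by rw [reassoc_of% hl₁, hk₁], by rw [Category.assoc, hk₂, hl₂]⟩ ⟨Category.comp_id _, Category.id_comp _⟩
      inv_hom_id := (h.2.2 hX' ν f' h.2.1 h.1).unique
        ⟨by rw [reassoc_of% hk₁, hl₁], by rw [Category.assoc, hl₂, hk₂]⟩ ⟨Category.comp_id _, Category.id_comp _⟩ }
  have hGb : BC hG.1 b := hBC (.inr PUnit.unit)
  refine BC.mk_of_squares h.1 (IsPullback.of_hasPullback f b) (a' := pullback.fst νG b ≫ e.hom) ?_ ?_ hGb
  · exact (IsPullback.of_hasPullback νG b).of_iso (Iso.refl _) e (Iso.refl _) (Iso.refl _) (by simp) (by simp)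
      (by simp [e, hl₂]) (by simp)
  · rw [reassoc_of% bcMap_fst hG.1 b]
    exact congrArg (pullback.fst f b ≫ ·) hl₁

theorem bc_of_scheme (hX : IsAlgSpace X) (hY : IsAlgSpace Y) (hX' : IsAlgSpace X') (hqc : IsQuasiCompactMor f)
    (hqs : IsQuasiSeparatedMor f) (h : IsRelNormalization f ν f') {V : Over S}
    (b : (yon S).obj V ⟶ X) (hb : RepWith @Etale b) : BC h.1 b := by
  let Of : V.left.affineOpens → Over S := fun Q => Over.mk (Q.1.ι ≫ V.hom)
  let o : ∀ Q, Of Q ⟶ V := fun Q => CategoryTheory.Over.homMk Q.1.ι rfl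
  haveI : ∀ Q, IsOpenImmersion (o Q).left := fun Q => inferInstanceAs (IsOpenImmersion Q.1.ι)
  have := bc_of_cover hX hY (isIntegralMor_iff_repWith.1 h.2.1) h.1 b o (fun v => by
    obtain ⟨Q, hQ, hvQ, -⟩ := exists_isAffineOpen_mem_and_subset (U := (⊤ : V.left.Opens)) (x := v) trivial
    exact ⟨⟨Q, hQ⟩, ⟨v, hvQ⟩, rfl⟩) (fun Q W hW e he => bc_of_isAffine hX hY hX' hqc hqs h hW _
      (repWith_comp ((repWith_yon_map_iff @Etale _).2 (by rw [Over.comp_left]; infer_instance)) hb))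
    (𝟙 V) (by rw [Over.id_left]; infer_instance)
  rwa [CategoryTheory.Functor.map_id, Category.id_comp] at this

/-- Relative normalization commutes with etale base change. -/
theorem bc_of_isEtaleMor (hX : IsAlgSpace X) (hY : IsAlgSpace Y) (hX' : IsAlgSpace X') (hqc : IsQuasiCompactMor f)
    (hqs : IsQuasiSeparatedMor f) (h : IsRelNormalization f ν f') {W : Sp S} (hW : IsAlgSpace W)
    (w : W ⟶ X) (hw : IsEtaleMor w) : BC h.1 w := by
  obtain ⟨U₀, a, ha, has⟩ := hW.atlas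
  refine isRelNormalization_of_family hW (isAlgSpace_pullback hY hW hX f w)
    (repWith_snd w (isIntegralMor_iff_repWith.1 h.2.1)) (bcMap_snd h.1 w) (fun _ : PUnit.{u + 1} => a)
    (fun _ => ha) (fun p => ⟨⟨⟩, surjective_ofPt has p⟩)
    (fun _ => BC.restrict (bc_of_scheme hX hY hX' hqc hqs h _ (hw a ha))) fun _ _ => ?_
  exact (BC.restrict (bc_of_scheme hX hY hX' hqc hqs h _
    (hw _ (repWith_comp (repWith_of_isPullback (ha.rep.isPullback a).flip ha) ha)))).uniqAt

end Groth.Agent.AlgSpDec.RelNorm
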