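import Groth.Agent.AlgSpDec.RelNorm.SigmaCase

/-!
# Transition maps of a normalization over an atlas
-/

set_option autoImplicit false
set_option backward.isDefEq.respectTransparency false
set_option backward.isDefEq.respectTransparency.types false

universe u

open CategoryTheory CategoryTheory.Limits AlgebraicGeometry AlgSp Groth.Agent.AlgSpLib Groth.Agent.AlgSpPts

namespace Groth.Agent.AlgSpDec.RelNorm

variable {S : Scheme.{u}} {X Y : Sp S} {f : Y ⟶ X} {U N : Over S} {b : (yon S).obj U ⟶ X}
  {ν : N ⟶ U} {g : pullback f b ⟶ (yon S).obj N} (hfac : g ≫ (yon S).map ν = pullback.snd f b)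

/-- A transition map of the normalization from one etale map to the atlas to another. -/
def IsTrans {V : Over S} (e₁ e₂ : V ⟶ U) (he : (yon S).map e₁ ≫ b = (yon S).map e₂ ≫ b)
    (k : pullback ((yon S).map ν) ((yon S).map e₁) ⟶ (yon S).obj N) : Prop :=
  k ≫ (yon S).map ν = pullback.snd ((yon S).map ν) ((yon S).map e₁) ≫ (yon S).map e₂ ∧
    bcMap hfac ((yon S).map e₁) ≫ k = pullback.lift (pullback.fst _ _ ≫ pullback.fst f b)
      (pullback.snd (pullback.snd f b) ((yon S).map e₁) ≫ (yon S).map e₂)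
      (by rw [Category.assoc, Category.assoc, pullback.condition, pullback.condition_assoc, he]) ≫ g

variable {hfac}

theorem exists_isTrans (hU : IsAlgSpace ((yon S).obj U)) (hν : IsIntegralHom ν.left) {V : Over S} {e₁ e₂ : V ⟶ U}
    (h₁ : BC hfac ((yon S).map e₁)) (he : (yon S).map e₁ ≫ b = (yon S).map e₂ ≫ b) :
    ∃ k, IsTrans hfac e₁ e₂ he k := by
  let h := pullback.lift (f := pullback.snd f b) (g := (yon S).map e₂)
    (pullback.lift (pullback.fst _ _ ≫ pullback.fst f b)
      (pullback.snd (pullback.snd f b) ((yon S).map e₁) ≫ (yon S).map e₂)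
      (by rw [Category.assoc, Category.assoc, pullback.condition, pullback.condition_assoc, he]))
    (pullback.snd (pullback.snd f b) ((yon S).map e₁)) (by rw [pullback.lift_snd])
  obtain ⟨φ, ⟨hφ₁, hφ₂⟩, -⟩ := h₁.2.2
    (isAlgSpace_pullback (IsAlgSpace.yon_obj N) (IsAlgSpace.yon_obj V) hU ((yon S).map ν) ((yon S).map e₂))
    (pullback.snd ((yon S).map ν) ((yon S).map e₂)) (h ≫ bcMap hfac ((yon S).map e₂))
    (isIntegralMor_iff_repWith.2 (repWith_snd _ ((repWith_yon_map_iff @IsIntegralHom ν).2 hν)))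
    (by rw [Category.assoc, bcMap_snd, pullback.lift_snd])
  refine ⟨φ ≫ pullback.fst _ _, ?_, ?_⟩
  · rw [Category.assoc, pullback.condition, reassoc_of% hφ₂]
  · rw [reassoc_of% hφ₁, bcMap_fst, pullback.lift_fst_assoc]

theorem IsTrans.unique (hν : IsIntegralHom ν.left) {V : Over S} {e₁ e₂ : V ⟶ U}
    (h₁ : BC hfac ((yon S).map e₁)) {he : (yon S).map e₁ ≫ b = (yon S).map e₂ ≫ b} {k k'}
    (hk : IsTrans hfac e₁ e₂ he k) (hk' : IsTrans hfac e₁ e₂ he k') : k = k' := by
  have := h₁.uniqAt (isAlgSpace_pullback (IsAlgSpace.yon_obj N) (IsAlgSpace.yon_obj V) (IsAlgSpace.yon_obj U)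
      ((yon S).map ν) ((yon S).map e₂)) (pullback.snd ((yon S).map ν) ((yon S).map e₂))
    (isIntegralMor_iff_repWith.2 (repWith_snd _ ((repWith_yon_map_iff @IsIntegralHom ν).2 hν)))
    (pullback.lift k _ hk.1) (pullback.lift k' _ hk'.1) (pullback.lift_snd _ _ _) (pullback.lift_snd _ _ _) (by
      refine pullback.hom_ext ?_ ?_
      · rw [Category.assoc, pullback.lift_fst, Category.assoc, pullback.lift_fst, hk.2, hk'.2]
      · rw [Category.assoc, pullback.lift_snd, Category.assoc, pullback.lift_snd])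
  have := this =≫ pullback.fst _ _
  rwa [pullback.lift_fst, pullback.lift_fst] at this

theorem isTrans_fst {V : Over S} (e : V ⟶ U) :
    IsTrans hfac e e rfl (pullback.fst ((yon S).map ν) ((yon S).map e)) := by
  refine ⟨pullback.condition, ?_⟩
  rw [bcMap_fst]
  congr 1
  refine pullback.hom_ext ?_ ?_
  · rw [pullback.lift_fst]
  · rw [pullback.lift_snd, pullback.condition]

theorem IsTrans.restrict {V W : Over S} {e₁ e₂ : V ⟶ U} {he : (yon S).map e₁ ≫ b = (yon S).map e₂ ≫ b} {k}
    (hk : IsTrans hfac e₁ e₂ he k) (w : W ⟶ V) {d₁ d₂ : W ⟶ U} (hd₁ : w ≫ e₁ = d₁) (hd₂ : w ≫ e₂ = d₂)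
    (hd : (yon S).map d₁ ≫ b = (yon S).map d₂ ≫ b) :
    IsTrans hfac d₁ d₂ hd (pullback.lift (f := (yon S).map ν) (g := (yon S).map e₁) (pullback.fst _ _)
      (pullback.snd ((yon S).map ν) ((yon S).map d₁) ≫ (yon S).map w)
      (by rw [pullback.condition, Category.assoc, ← Functor.map_comp, hd₁]) ≫ k) := by
  refine ⟨?_, ?_⟩
  · rw [Category.assoc, hk.1, pullback.lift_snd_assoc, Category.assoc, ← Functor.map_comp, hd₂]
  · let m := pullback.lift (f := pullback.snd f b) (g := (yon S).map e₁) (pullback.fst _ _)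
      (pullback.snd (pullback.snd f b) ((yon S).map d₁) ≫ (yon S).map w)
      (by rw [pullback.condition, Category.assoc, ← Functor.map_comp, hd₁])
    have e : bcMap hfac ((yon S).map d₁) ≫ pullback.lift (f := (yon S).map ν) (g := (yon S).map e₁)
        (pullback.fst _ _) (pullback.snd ((yon S).map ν) ((yon S).map d₁) ≫ (yon S).map w)
        (by rw [pullback.condition, Category.assoc, ← Functor.map_comp, hd₁]) = m ≫ bcMap hfac ((yon S).map e₁) := by
      refine pullback.hom_ext ?_ ?_
      · rw [Category.assoc, pullback.lift_fst, bcMap_fst, Category.assoc, bcMap_fst, pullback.lift_fst_assoc]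
      · rw [Category.assoc, pullback.lift_snd, ← Category.assoc, bcMap_snd, Category.assoc, bcMap_snd,
          pullback.lift_snd]
    rw [reassoc_of% e, hk.2, ← Category.assoc]
    congr 1
    refine pullback.hom_ext ?_ ?_
    · rw [Category.assoc, pullback.lift_fst, pullback.lift_fst, pullback.lift_fst_assoc]
    · rw [Category.assoc, pullback.lift_snd, pullback.lift_snd, pullback.lift_snd_assoc, Category.assoc,
        ← Functor.map_comp, hd₂]

theorem IsTrans.comp {V : Over S} {e₁ e₂ e₃ : V ⟶ U} {he : (yon S).map e₁ ≫ b = (yon S).map e₂ ≫ b}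
    {he' : (yon S).map e₂ ≫ b = (yon S).map e₃ ≫ b} {k k'} (hk : IsTrans hfac e₁ e₂ he k)
    (hk' : IsTrans hfac e₂ e₃ he' k') : IsTrans hfac e₁ e₃ (he.trans he') (pullback.lift k _ hk.1 ≫ k') := by
  refine ⟨?_, ?_⟩
  · rw [Category.assoc, hk'.1, pullback.lift_snd_assoc]
  · let m := pullback.lift (f := pullback.snd f b) (g := (yon S).map e₂)
      (pullback.lift (pullback.fst _ _ ≫ pullback.fst f b)
        (pullback.snd (pullback.snd f b) ((yon S).map e₁) ≫ (yon S).map e₂)
        (by rw [Category.assoc, Category.assoc, pullback.condition, pullback.condition_assoc, he]))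
      (pullback.snd (pullback.snd f b) ((yon S).map e₁)) (by rw [pullback.lift_snd])
    have e : bcMap hfac ((yon S).map e₁) ≫ pullback.lift k _ hk.1 = m ≫ bcMap hfac ((yon S).map e₂) := by
      refine pullback.hom_ext ?_ ?_
      · rw [Category.assoc, pullback.lift_fst, hk.2, Category.assoc, bcMap_fst, pullback.lift_fst_assoc]
      · simp only [m, Category.assoc, pullback.lift_snd, bcMap_snd]
    rw [reassoc_of% e, hk'.2, ← Category.assoc]
    congr 1
    refine pullback.hom_ext ?_ ?_
    · rw [Category.assoc, pullback.lift_fst, pullback.lift_fst, pullback.lift_fst_assoc, pullback.lift_fst]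
    · rw [Category.assoc, pullback.lift_snd, pullback.lift_snd, pullback.lift_snd_assoc]

end Groth.Agent.AlgSpDec.RelNorm
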